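import Cfsg.Agent.H59.Spr.LThreeFour
import Cfsg.Agent.H688.Sp4.OddAll
import Cfsg.Agent.H458.Spr.PSp6Final
import Cfsg.Agent.H842.Spr.PSp8
import Cfsg.Agent.H791.Spr.Sp
import Cfsg.Agent.H427.Sg.RowEven
import Cfsg.Agent.H947.Spr.PsuSmall
import Cfsg.Agent.H833.Spr4.PSU4
import Cfsg.Agent.H775.Spr.Psu5
import Cfsg.Agent.H62.Spr.PsuSix
import Cfsg.Agent.H242.Spr.Su7
import Cfsg.Agent.H242.Spr.Su8
import Cfsg.Agent.H196.Spr.SUNineMain
import Cfsg.Agent.H424.Spr.SUall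
import Cfsg.Agent.H36.Spr7.Main
import Cfsg.Agent.H71.Spr.NineAll
import Cfsg.Agent.H239.SprOodd
import Cfsg.Agent.H497.Spr.OM
import Cfsg.Agent.H688.Spr.OMinusAll
import Cfsg.Agent.H604.Spr.Three
import Cfsg.Agent.H823.O8S.RowFin
import Cfsg.Agent.S0297
import Cfsg.Agent.S5948
import Cfsg.Agent.S5803
import Cfsg.Agent.S5842
import Cfsg.Agent.S0000
import Cfsg.Agent.H94.BR.FinC

/-!
# `Spr` for the classical groups over large fields (helper262)
-/

set_option autoImplicit false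

namespace Cfsg.Agent.H262.Rx

open Cfsg Cfsg.Agent.OrdDiv Cfsg.Agent.H436 Cfsg.Agent.H883.BR Cfsg.Agent.H94.BR.Fin Subgroup
open Cfsg.Agent.H424.Spr (Spr)

theorem ppd : H659.CovCore.S5948Stmt.{0} := fun hF n k hn hk g h1 h2 h3 H hg hirr =>
  S5948.result hF n k hn hk g h1 h2 h3 H hg hirr

theorem r5842 : H981.Cov.S5842Stmt := fun q hF H hH hS => S5842.result q hF H hH hS

theorem spr_psu_all {n q : ℕ} {F : Type} [Field F] [Fintype F] (hF : Fintype.card F = q ^ 2) (hn : 3 ≤ n) (hq : 3 ≤ q) :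
    Spr (PSU n F q) := by
  rcases Nat.lt_or_ge n 10 with h | h
  · interval_cases n
    · exact H947.Spr.spr_psu3 hF hq
    · exact H833.Spr4.spr_psu4 hF
    · exact H775.Spr.spr_psu5 hF
    · exact H62.Spr.spr_psu_six hF fun _ H hH hS => S5803.result q hF H hH hS
    · exact H242.Spr.spr_psu7 hF
    · exact H242.Spr.spr_psu8 hF
    · exact H196.Spr.spr_psu_nine hF
  · exact H424.SprSU.spr_psu ppd r5842 hF h

theorem spr_psp_all {m : ℕ} {F : Type} [Field F] [Fintype F] (hm : 2 ≤ m) (hq : 3 ≤ Fintype.card F) : Spr (PSp m F) := by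
  by_cases ho : Odd (Fintype.card F)
  · rcases Nat.lt_or_ge m 5 with h | h
    · interval_cases m
      · exact H688.Sp4.spr_psp4_odd ho
      · exact H458.Spr6.spr_psp3 ho
      · exact H842.Spr.spr_psp_four ho
    · exact H791.Spr.spr_psp10 ppd h ho
  · exact H427.Sg.spr_psp_even ppd hm (fun _ => hq) ho (fun h => by omega) (fun h => by omega)

theorem spr_oodd_all {m : ℕ} {F : Type} [Field F] [Fintype F] (hm : 3 ≤ m) (ho : Odd (Fintype.card F)) :
    Spr (POmega F (quadFormOdd m F)) := by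
  rcases Nat.lt_or_ge m 5 with h | h
  · interval_cases m
    · exact H36.Spr7.spr_oodd7 (fun _ _ _ _ => S0000.result) ho
    · exact H71.Spr.spr_o9 ho
  · exact H239.SprOodd.spr_oodd ppd h ho

theorem spr_oplus_all {m : ℕ} {F : Type} [Field F] [Fintype F] (hm : 4 ≤ m) (hq : 7 ≤ Fintype.card F) :
    Spr (POmega F (quadFormPlus m F)) := by
  rcases Nat.eq_or_lt_of_le hm with rfl | h
  · exact H823.O8S.spr_row (fun _ _ _ _ => S0000.result) (by rw [Nat.card_eq_fintype_card]; omega)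
      (by rw [Nat.card_eq_fintype_card]; omega)
  · exact H604.Spr.spr_plus ppd h fun h2 => by omega

theorem spr_ominus_all {m : ℕ} {F : Type} [Field F] [Fintype F] {a b : F} (hm : 4 ≤ m) (hq : 7 ≤ Fintype.card F)
    (hab : ∀ z₁ z₂ : F, z₁ ^ 2 + a * z₁ * z₂ + b * z₂ ^ 2 = 0 → z₁ = 0 ∧ z₂ = 0) :
    Spr (POmega F (quadFormMinus (m - 1) F a b)) := by
  rcases Nat.eq_or_lt_of_le hm with rfl | h
  · exact H497.Spr.spr_ominus_four hab
  · have hs : IsSimpleGroup (POmega F (quadFormMinus (m - 1) F a b)) := S0297.result (F := F) m hm a b hab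
    have hna : ∃ x y : POmega F (quadFormMinus (m - 1) F a b), x * y ≠ y * x := H497.Spr.not_comm_minus (by omega) hab
    exact H688.Spr.spr_ominus' ppd h (fun h2 => by omega) hab hna

/-- **`SprA`** -/
theorem sprA : SprA where
  psl := fun n => ⟨0, fun q _ T _ _ _ hT => by
    obtain ⟨F, _, _, hFq, ⟨e⟩⟩ := hT.real
    subst hFq
    exact spr_congr e (H59.SprPsl.spr_psl hT.cond.1 hT.cond.2.1)⟩
  psp := fun n => ⟨3, fun q hq T _ _ _ hT => by
    obtain ⟨F, _, _, hFq, ⟨e⟩⟩ := hT.real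
    subst hFq
    exact spr_congr e (spr_psp_all hT.cond.1 hq)⟩
  psu := fun n => ⟨3, fun q hq T _ _ _ hT => by
    obtain ⟨F, _, _, hFq, ⟨e⟩⟩ := hT.real
    exact spr_congr e (spr_psu_all hFq hT.cond.1 hq)⟩
  oodd := fun n => ⟨0, fun q _ T _ _ _ hT => by
    obtain ⟨F, _, _, hFq, ⟨e⟩⟩ := hT.real
    subst hFq
    exact spr_congr e (spr_oodd_all hT.cond.1 hT.cond.2.1)⟩
  oplus := fun n => ⟨7, fun q hq T _ _ _ hT => by
    obtain ⟨F, _, _, hFq, ⟨e⟩⟩ := hT.real
    exact spr_congr e (spr_oplus_all hT.cond.1 (by omega))⟩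
  ominus := fun n => ⟨7, fun q hq T _ _ _ hT => by
    obtain ⟨F, _, _, a, b, hFq, hab, ⟨e⟩⟩ := hT.real
    exact spr_congr e (spr_ominus_all hT.cond.1 (by omega) hab)⟩

end Cfsg.Agent.H262.Rx
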