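import Cfsg.Agent.H94.BR.FinD
import Cfsg.Agent.H262.Rx.SprA

/-!
# Bounded rank (helper262)
-/

set_option autoImplicit false

namespace Cfsg.Agent.H262.Rx

theorem bx_all : BX IsCl := (Cfsg.Agent.H94.BR.Fin.bx_bc_of sprA).1

theorem bc_all : BC IsCl := (Cfsg.Agent.H94.BR.Fin.bx_bc_of sprA).2

end Cfsg.Agent.H262.Rx
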