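import Mathlib
import Cfsg.Agent.H262.Rx.Name
import Cfsg.Agent.S0249
import Cfsg.Agent.S0270
import Cfsg.Agent.S0283
import Cfsg.Agent.S0295
import Cfsg.Agent.S0296
import Cfsg.Agent.S0297

/-!
# S5715 and S5716 from the rows (helper262)

* `missX T x` : the number of `y` with `⟨x, y⟩ ≠ T`; `missC T` : the number of pairs with `⟨x, x^y⟩ ≠ T`;
* `BX`, `UX` (bounded rank, unbounded rank; fixed `x`), `BC`, `UC` (random conjugate);
* `s5716 : BX → UX → ...`, `s5715 : BC → UC → ...`.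
-/

set_option autoImplicit false
set_option linter.unusedSectionVars false
set_option linter.unusedVariables false

namespace Cfsg.Agent.H262.Rx

open Cfsg Cfsg.Agent.OrdDiv Cfsg.Agent.H436 Subgroup

universe u v

/-- the number of `y` which do not generate together with `x` -/
noncomputable def missX (T : Type u) [Group T] (x : T) : ℕ := Nat.card {y : T // closure {x, y} ≠ ⊤}

/-- the number of pairs `(x, y)` such that `x` and `y x y⁻¹` do not generate -/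
noncomputable def missC (T : Type u) [Group T] : ℕ :=
  Nat.card {p : T × T // closure {p.1, p.2 * p.1 * p.2⁻¹} ≠ ⊤}

/-- fixed element, bounded rank -/
def BX (P : Grp → Prop) : Prop :=
  ∀ (N : ℕ) (ε : ℝ), 0 < ε → ∃ Q : ℕ, ∀ (g : Grp) (T : Type) [Group T] [Finite T] [IsSimpleGroup T], IsNamed g T →
    P g → rk g ≤ N → Q ≤ fld g → ∀ x : T, x ≠ 1 → (missX T x : ℝ) ≤ ε * Nat.card T

/-- fixed element, unbounded rank -/
def UX (P : Grp → Prop) : Prop :=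
  ∀ (ε : ℝ), 0 < ε → ∃ N Q : ℕ, ∀ (g : Grp) (T : Type) [Group T] [Finite T] [IsSimpleGroup T], IsNamed g T →
    P g → N ≤ rk g → Q ≤ fld g → ∀ x : T, x ≠ 1 → (missX T x : ℝ) ≤ ε * Nat.card T

/-- random conjugate, bounded rank -/
def BC (P : Grp → Prop) : Prop :=
  ∀ (N : ℕ) (ε : ℝ), 0 < ε → ∃ Q : ℕ, ∀ (g : Grp) (T : Type) [Group T] [Finite T] [IsSimpleGroup T], IsNamed g T →
    P g → rk g ≤ N → Q ≤ fld g → (missC T : ℝ) ≤ ε * (Nat.card T : ℝ) ^ 2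

/-- random conjugate, unbounded rank -/
def UC (P : Grp → Prop) : Prop :=
  ∀ (ε : ℝ), 0 < ε → ∃ N : ℕ, ∀ (g : Grp) (T : Type) [Group T] [Finite T] [IsSimpleGroup T], IsNamed g T →
    P g → N ≤ rk g → (missC T : ℝ) ≤ ε * (Nat.card T : ℝ) ^ 2

theorem BX.or {P R : Grp → Prop} (hP : BX P) (hR : BX R) : BX fun g => P g ∨ R g := by
  intro N ε hε
  obtain ⟨a, ha⟩ := hP N ε hε
  obtain ⟨b, hb⟩ := hR N ε hε
  refine ⟨max a b, fun g T _ _ _ hT hg hk hq => ?_⟩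
  rcases hg with hg | hg
  · exact ha g T hT hg hk ((le_max_left _ _).trans hq)
  · exact hb g T hT hg hk ((le_max_right _ _).trans hq)

theorem UX.or {P R : Grp → Prop} (hP : UX P) (hR : UX R) : UX fun g => P g ∨ R g := by
  intro ε hε
  obtain ⟨a, a', ha⟩ := hP ε hε
  obtain ⟨b, b', hb⟩ := hR ε hε
  refine ⟨max a b, max a' b', fun g T _ _ _ hT hg hk hq => ?_⟩
  rcases hg with hg | hg
  · exact ha g T hT hg ((le_max_left _ _).trans hk) ((le_max_left _ _).trans hq)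
  · exact hb g T hT hg ((le_max_right _ _).trans hk) ((le_max_right _ _).trans hq)

theorem BC.or {P R : Grp → Prop} (hP : BC P) (hR : BC R) : BC fun g => P g ∨ R g := by
  intro N ε hε
  obtain ⟨a, ha⟩ := hP N ε hε
  obtain ⟨b, hb⟩ := hR N ε hε
  refine ⟨max a b, fun g T _ _ _ hT hg hk hq => ?_⟩
  rcases hg with hg | hg
  · exact ha g T hT hg hk ((le_max_left _ _).trans hq)
  · exact hb g T hT hg hk ((le_max_right _ _).trans hq)

theorem UC.or {P R : Grp → Prop} (hP : UC P) (hR : UC R) : UC fun g => P g ∨ R g := by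
  intro ε hε
  obtain ⟨a, ha⟩ := hP ε hε
  obtain ⟨b, hb⟩ := hR ε hε
  refine ⟨max a b, fun g T _ _ _ hT hg hk => ?_⟩
  rcases hg with hg | hg
  · exact ha g T hT hg ((le_max_left _ _).trans hk)
  · exact hb g T hT hg ((le_max_right _ _).trans hk)

theorem BX.mono {P R : Grp → Prop} (h : ∀ g, R g → P g) (hP : BX P) : BX R := fun N ε hε => by
  obtain ⟨a, ha⟩ := hP N ε hε
  exact ⟨a, fun g T _ _ _ hT hg hk hq => ha g T hT (h g hg) hk hq⟩

theorem UX.mono {P R : Grp → Prop} (h : ∀ g, R g → P g) (hP : UX P) : UX R := fun ε hε => by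
  obtain ⟨a, b, ha⟩ := hP ε hε
  exact ⟨a, b, fun g T _ _ _ hT hg hk hq => ha g T hT (h g hg) hk hq⟩

theorem BC.mono {P R : Grp → Prop} (h : ∀ g, R g → P g) (hP : BC P) : BC R := fun N ε hε => by
  obtain ⟨a, ha⟩ := hP N ε hε
  exact ⟨a, fun g T _ _ _ hT hg hk hq => ha g T hT (h g hg) hk hq⟩

theorem UC.mono {P R : Grp → Prop} (h : ∀ g, R g → P g) (hP : UC P) : UC R := fun ε hε => by
  obtain ⟨a, ha⟩ := hP ε hε
  exact ⟨a, fun g T _ _ _ hT hg hk => ha g T hT (h g hg) hk⟩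

/-- the number of elements with the opposite property -/
theorem card_not {X : Type*} [Finite X] (P : X → Prop) :
    (Nat.card {x : X // P x} : ℝ) = Nat.card X - Nat.card {x : X // ¬ P x} := by
  classical
  have := Fintype.ofFinite X
  have h : Nat.card {x : X // P x} + Nat.card {x : X // ¬ P x} = Nat.card X := by
    rw [← Nat.card_sum]
    exact Nat.card_congr (Equiv.sumCompl P)
  rw [← h]
  push_cast
  ring

theorem closure_eq_top_iff {G : Type u} {H : Type v} [Group G] [Group H] (e : G ≃* H) (s : Set G) :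
    closure s = ⊤ ↔ closure (e '' s) = ⊤ := by
  have h : closure (e '' s) = (closure s).map e.toMonoidHom := by
    rw [MonoidHom.map_closure]
    rfl
  rw [h]
  constructor
  · intro h
    rw [h]
    exact Subgroup.map_top_of_surjective _ e.surjective
  · intro h
    rw [eq_top_iff]
    intro x _
    have hx : e x ∈ (closure s).map e.toMonoidHom := h ▸ mem_top _
    obtain ⟨y, hy, hxy⟩ := hx
    have : y = x := e.injective hxy
    exact this ▸ hy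

theorem missX_congr {G : Type u} {H : Type v} [Group G] [Group H] (e : G ≃* H) (x : G) :
    missX G x = missX H (e x) := by
  refine Nat.card_congr (e.toEquiv.subtypeEquiv fun y => ?_)
  rw [ne_eq, ne_eq, closure_eq_top_iff e, Set.image_pair]
  rfl

theorem missC_congr {G : Type u} {H : Type v} [Group G] [Group H] (e : G ≃* H) : missC G = missC H := by
  refine Nat.card_congr ((Equiv.prodCongr e.toEquiv e.toEquiv).subtypeEquiv fun p => ?_)
  rw [ne_eq, ne_eq, closure_eq_top_iff e, Set.image_pair, map_mul, map_mul, map_inv]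
  rfl

/-- **S5716 from the rows.** -/
theorem s5716 (hB : BX IsCl) (hU : UX IsCl) (ε : ℝ) (hε : 0 < ε) :
    ∃ Q : ℕ, ∀ (F : Type) [Field F] [Fintype F], Q ≤ Fintype.card F →
      ∀ (G : Type u) [Group G] [Finite G] [IsSimpleGroup G],
        ((∃ n : ℕ, Nonempty (G ≃* Matrix.ProjectiveSpecialLinearGroup (Fin n) F)) ∨
          (∃ m : ℕ, Nonempty (G ≃* Cfsg.PSp m F)) ∨
          (∃ n q : ℕ, Fintype.card F = q ^ 2 ∧ Nonempty (G ≃* Cfsg.PSU n F q)) ∨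
          (∃ m : ℕ, Nonempty (G ≃* Cfsg.POmega F (Cfsg.quadFormOdd m F))) ∨
          (∃ m : ℕ, Nonempty (G ≃* Cfsg.POmega F (Cfsg.quadFormPlus m F))) ∨
          (∃ (m : ℕ) (a b : F), (∀ z₁ z₂ : F, z₁ ^ 2 + a * z₁ * z₂ + b * z₂ ^ 2 = 0 → z₁ = 0 ∧ z₂ = 0) ∧
            Nonempty (G ≃* Cfsg.POmega F (Cfsg.quadFormMinus m F a b)))) →
        ∀ x : G, x ≠ 1 → (1 - ε) * (Nat.card G : ℝ) ≤ Nat.card {y : G // Subgroup.closure {x, y} = ⊤} := by
  obtain ⟨N, Q0, h0⟩ := hU ε hε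
  obtain ⟨Q1, h1⟩ := hB N ε hε
  refine ⟨(max Q0 Q1) ^ 2 + 16, fun F _ _ hF G _ _ _ h x hx => ?_⟩
  let e : G ≃* Shrink.{0} G := Shrink.mulEquiv.symm
  have hs : IsSimpleGroup (Shrink.{0} G) := e.symm.isSimpleGroup
  have hT : ∃ g, IsCl g ∧ IsNamed g (Shrink.{0} G) ∧ Fintype.card F ≤ fld g ^ 2 := by
    refine named_of_form F (by omega) _ ?_
    rcases h with ⟨n, ⟨f⟩⟩ | ⟨n, ⟨f⟩⟩ | ⟨n, q, hq, ⟨f⟩⟩ | ⟨n, ⟨f⟩⟩ | ⟨n, ⟨f⟩⟩ | ⟨n, a, b, hab, ⟨f⟩⟩
    · exact Or.inl ⟨n, ⟨e.symm.trans f⟩⟩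
    · exact Or.inr (Or.inl ⟨n, ⟨e.symm.trans f⟩⟩)
    · exact Or.inr (Or.inr (Or.inl ⟨n, q, hq, ⟨e.symm.trans f⟩⟩))
    · exact Or.inr (Or.inr (Or.inr (Or.inl ⟨n, ⟨e.symm.trans f⟩⟩)))
    · exact Or.inr (Or.inr (Or.inr (Or.inr (Or.inl ⟨n, ⟨e.symm.trans f⟩⟩))))
    · exact Or.inr (Or.inr (Or.inr (Or.inr (Or.inr ⟨n, a, b, hab, ⟨e.symm.trans f⟩⟩))))
  obtain ⟨g, hg, hn, hq⟩ := hT
  have hQ : max Q0 Q1 ≤ fld g := by
    by_contra hc
    have h3 : fld g ^ 2 ≤ (max Q0 Q1) ^ 2 := Nat.pow_le_pow_left (by omega) 2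
    omega
  have hx' : e x ≠ 1 := fun h => hx (e.injective (h.trans (map_one e).symm))
  have key : (missX G x : ℝ) ≤ ε * Nat.card G := by
    rw [missX_congr e x, Nat.card_congr e.toEquiv]
    rcases le_total (rk g) N with hr | hr
    · exact h1 g _ hn hg hr ((le_max_right _ _).trans hQ) _ hx'
    · exact h0 g _ hn hg hr ((le_max_left _ _).trans hQ) _ hx'
  rw [card_not]
  change _ ≤ (Nat.card G : ℝ) - (missX G x : ℝ)
  linarith

/-- only finitely many names with bounded parameters -/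
theorem exists_bound (N Q : ℕ) : ∃ D : ℕ, ∀ g, IsCl g → rk g ≤ N → fld g < Q → ordN g < D := by
  let s : Finset (ℕ × ℕ) := Finset.range (N + 1) ×ˢ Finset.range Q
  let f : ℕ × ℕ → ℕ := fun x => ordN (.psl x.1 x.2) + ordN (.psp x.1 x.2) + ordN (.psu x.1 x.2) +
    ordN (.oodd x.1 x.2) + ordN (.oplus x.1 x.2) + ordN (.ominus x.1 x.2)
  refine ⟨∑ x ∈ s, f x + 1, fun g hg hr hq => ?_⟩
  have key : ∀ n q : ℕ, n ≤ N → q < Q → f (n, q) ≤ ∑ x ∈ s, f x := fun n q hn hq =>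
    Finset.single_le_sum (f := f) (fun _ _ => Nat.zero_le _)
      (Finset.mem_product.2 ⟨Finset.mem_range.2 (Nat.lt_succ_of_le hn), Finset.mem_range.2 hq⟩)
  rcases hg with ⟨n, q, rfl⟩ | ⟨n, q, rfl⟩ | ⟨n, q, rfl⟩ | ⟨n, q, rfl⟩ | ⟨n, q, rfl⟩ | ⟨n, q, rfl⟩
  all_goals
    have h := key n q hr hq
    simp only [f] at h ⊢
    omega

/-- the groups of S5715 are simple -/
theorem simple_of_classical {G : Type u} [Group G]
    (h : Cfsg.IsPSL G ∨ Cfsg.IsPSp G ∨ Cfsg.IsPSU G ∨ Cfsg.IsPOmegaOdd G ∨ Cfsg.IsPOmegaPlus G ∨ Cfsg.IsPOmegaMinus G) :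
    IsSimpleGroup G := by
  rcases h with h | h | h | h | h | h
  · obtain ⟨F, _, _, n, hn, h2, ⟨e⟩⟩ := h
    rcases Nat.lt_or_ge n 3 with h3 | h3
    · obtain rfl : n = 2 := by omega
      exact (MulEquiv.isSimpleGroup_congr e).2 (Matrix.ProjectiveSpecialLinearGroup.rank_two_simple (by
        rw [Nat.card_eq_fintype_card]; exact h2 rfl))
    · exact (MulEquiv.isSimpleGroup_congr e).2 (S0249.result n h3)
  · obtain ⟨F, _, _, m, hm, h2, ⟨e⟩⟩ := h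
    exact (MulEquiv.isSimpleGroup_congr e).2 (S0270.result m hm h2)
  · obtain ⟨F, _, _, n, q, hq, hn, h2, ⟨e⟩⟩ := h
    exact (MulEquiv.isSimpleGroup_congr e).2 (S0283.result hq n hn h2)
  · obtain ⟨F, _, _, m, hm, h2, ⟨e⟩⟩ := h
    exact (MulEquiv.isSimpleGroup_congr e).2 (S0295.result h2 m hm)
  · obtain ⟨F, _, _, m, hm, ⟨e⟩⟩ := h
    exact (MulEquiv.isSimpleGroup_congr e).2 (S0296.result m hm)
  · obtain ⟨F, _, _, m, a, b, hm, hab, ⟨e⟩⟩ := h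
    exact (MulEquiv.isSimpleGroup_congr e).2 (S0297.result m hm a b hab)

/-- transport of the hypothesis of S5715 -/
theorem classical_congr {G : Type u} {H : Type v} [Group G] [Group H] (e : H ≃* G)
    (h : Cfsg.IsPSL G ∨ Cfsg.IsPSp G ∨ Cfsg.IsPSU G ∨ Cfsg.IsPOmegaOdd G ∨ Cfsg.IsPOmegaPlus G ∨ Cfsg.IsPOmegaMinus G) :
    Cfsg.IsPSL H ∨ Cfsg.IsPSp H ∨ Cfsg.IsPSU H ∨ Cfsg.IsPOmegaOdd H ∨ Cfsg.IsPOmegaPlus H ∨ Cfsg.IsPOmegaMinus H := by
  rcases h with h | h | h | h | h | h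
  · obtain ⟨F, i1, i2, n, hn, h2, ⟨f⟩⟩ := h
    exact Or.inl ⟨F, i1, i2, n, hn, h2, ⟨e.trans f⟩⟩
  · obtain ⟨F, i1, i2, n, hn, h2, ⟨f⟩⟩ := h
    exact Or.inr (Or.inl ⟨F, i1, i2, n, hn, h2, ⟨e.trans f⟩⟩)
  · obtain ⟨F, i1, i2, n, q, hq, hn, h2, ⟨f⟩⟩ := h
    exact Or.inr (Or.inr (Or.inl ⟨F, i1, i2, n, q, hq, hn, h2, ⟨e.trans f⟩⟩))
  · obtain ⟨F, i1, i2, n, hn, h2, ⟨f⟩⟩ := h
    exact Or.inr (Or.inr (Or.inr (Or.inl ⟨F, i1, i2, n, hn, h2, ⟨e.trans f⟩⟩)))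
  · obtain ⟨F, i1, i2, n, hn, ⟨f⟩⟩ := h
    exact Or.inr (Or.inr (Or.inr (Or.inr (Or.inl ⟨F, i1, i2, n, hn, ⟨e.trans f⟩⟩))))
  · obtain ⟨F, i1, i2, n, a, b, hn, hab, ⟨f⟩⟩ := h
    exact Or.inr (Or.inr (Or.inr (Or.inr (Or.inr ⟨F, i1, i2, n, a, b, hn, hab, ⟨e.trans f⟩⟩))))

/-- **S5715 from the rows.** -/
theorem s5715 (hB : BC IsCl) (hU : UC IsCl) (ε : ℝ) (hε : 0 < ε) :
    ∃ N : ℕ, ∀ (G : Type u) [Group G] [Finite G],
      (Cfsg.IsPSL G ∨ Cfsg.IsPSp G ∨ Cfsg.IsPSU G ∨ Cfsg.IsPOmegaOdd G ∨ Cfsg.IsPOmegaPlus G ∨ Cfsg.IsPOmegaMinus G) →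
      N ≤ Nat.card G →
      (1 - ε) * (Nat.card G : ℝ) ^ 2 ≤ Nat.card {xy : G × G // Subgroup.closure {xy.1, xy.2 * xy.1 * xy.2⁻¹} = ⊤} := by
  obtain ⟨N, h0⟩ := hU ε hε
  obtain ⟨Q, h1⟩ := hB N ε hε
  obtain ⟨D, hD⟩ := exists_bound N Q
  refine ⟨D, fun G _ _ h hG => ?_⟩
  let e : G ≃* Shrink.{0} G := Shrink.mulEquiv.symm
  have h' := classical_congr e.symm h
  have hs : IsSimpleGroup (Shrink.{0} G) := simple_of_classical h'
  obtain ⟨g, hg, hn⟩ := named_of_classical h'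
  have hc : Nat.card G = Nat.card (Shrink.{0} G) := Nat.card_congr e.toEquiv
  have key : (missC G : ℝ) ≤ ε * (Nat.card G : ℝ) ^ 2 := by
    rw [missC_congr e, hc]
    rcases le_total (rk g) N with hr | hr
    · refine h1 g _ hn hg hr ?_
      by_contra hcon
      have h3 := hD g hg hr (not_le.1 hcon)
      rw [← hn.ord, ← hc] at h3
      omega
    · exact h0 g _ hn hg hr
  rw [card_not]
  have h5 : (Nat.card (G × G) : ℝ) = (Nat.card G : ℝ) ^ 2 := by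
    rw [Nat.card_prod]
    push_cast
    ring
  rw [h5]
  change _ ≤ (Nat.card G : ℝ) ^ 2 - (missC G : ℝ)
  linarith

end Cfsg.Agent.H262.Rx
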