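import Mathlib

/-!
# S5716, reducible part: fixed subspaces by orbits of vectors (helper262)

`ρ : Y →* End V`, `W0` a subspace, `W0.map (ρ y)` its translates.

* `card_mul_le` : `#{y | f y ∈ A} * |range f| ≤ |A| * |Y|` for an orbit map `f`;
* `card_common_le` : the number of `z` with a common invariant translate with `x` is at most the number of `y` with
  `W0.map (ρ y)` invariant under `x`;
* `card_noneig` : at least a quarter of the vectors of a subspace are not eigenvectors;
* `card_fix_le` : the number of `y` with `W0.map (ρ y)` invariant under `x` and not in an eigenspace.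
-/

set_option autoImplicit false
set_option linter.unusedSectionVars false
set_option linter.unusedVariables false

namespace Cfsg.Agent.H262.Rx

open Module

universe u v w

section Orb

variable {Y : Type u} [Group Y] [Finite Y] {Z : Type v}

/-- orbit maps of left actions -/
theorem card_mul_le (f : Y → Z) (hf : ∀ a b c : Y, f a = f b → f (c * a) = f (c * b)) (A : Set Z) (hA : A.Finite) :
    Nat.card {y // f y ∈ A} * Nat.card (Set.range f) ≤ Nat.card A * Nat.card Y := by
  classical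
  have : Finite A := hA
  have : Finite (Set.range f) := Set.finite_range f
  rw [← Nat.card_prod, ← Nat.card_prod]
  let s : Set.range f → Y := fun u => Classical.choose u.2
  have hs : ∀ u : Set.range f, f (s u) = u := fun u => Classical.choose_spec u.2
  let g : {y // f y ∈ A} × Set.range f → A × Y := fun p =>
    (⟨f p.1.1, p.1.2⟩, s p.2 * (s ⟨f p.1.1, p.1.1, rfl⟩)⁻¹ * p.1.1)
  refine Nat.card_le_card_of_injective g ?_
  have key : ∀ p : {y // f y ∈ A} × Set.range f, f (g p).2 = p.2 := by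
    intro p
    have h1 : f p.1.1 = f (s ⟨f p.1.1, p.1.1, rfl⟩) := (hs ⟨f p.1.1, p.1.1, rfl⟩).symm
    have h2 := hf _ _ (s p.2 * (s ⟨f p.1.1, p.1.1, rfl⟩)⁻¹) h1
    rw [inv_mul_cancel_right] at h2
    exact h2.trans (hs _)
  intro p r hpr
  have h1 : f p.1.1 = f r.1.1 := congrArg (fun t => (t.1 : Z)) hpr
  have h2 : (g p).2 = (g r).2 := congrArg Prod.snd hpr
  have h3 : p.2 = r.2 := Subtype.ext ((key p).symm.trans ((congrArg f h2).trans (key r)))
  have h4 : p.1.1 = r.1.1 := by
    simp only [g] at h2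
    have h5 : (⟨f p.1.1, p.1.1, rfl⟩ : Set.range f) = ⟨f r.1.1, r.1.1, rfl⟩ := Subtype.ext h1
    rw [h3, h5] at h2
    exact mul_left_cancel h2
  exact Prod.ext (Subtype.ext h4) h3

/-- orbit maps of right actions -/
theorem card_mul_le' (f : Y → Z) (hf : ∀ a b c : Y, f a = f b → f (a * c) = f (b * c)) (A : Set Z) (hA : A.Finite) :
    Nat.card {y // f y ∈ A} * Nat.card (Set.range f) ≤ Nat.card A * Nat.card Y := by
  have h := card_mul_le (fun y => f y⁻¹) (fun a b c hab => by
    rw [mul_inv_rev, mul_inv_rev]; exact hf _ _ _ hab) A hA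
  have h1 : Nat.card {y // f y⁻¹ ∈ A} = Nat.card {y // f y ∈ A} :=
    Nat.card_congr ((Equiv.inv Y).subtypeEquiv fun y => Iff.rfl)
  have h2 : Set.range (fun y : Y => f y⁻¹) = Set.range f := by
    ext z
    constructor
    · rintro ⟨y, rfl⟩
      exact ⟨_, rfl⟩
    · rintro ⟨y, rfl⟩
      exact ⟨y⁻¹, by simp⟩
  rw [h1, h2] at h
  exact h

end Orb

variable {K : Type u} {V : Type v} [Field K] [AddCommGroup V] [Module K V] [Finite V] [Finite K]
variable {Y : Type w} [Group Y] [Finite Y] (ρ : Y →* (V →ₗ[K] V)) (W0 : Submodule K V)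

theorem rho_inj (y : Y) : Function.Injective (ρ y) := by
  intro a b h
  have h1 : ρ y⁻¹ (ρ y a) = ρ y⁻¹ (ρ y b) := by rw [h]
  have h2 : ∀ c : V, ρ y⁻¹ (ρ y c) = c := by
    intro c
    rw [← Module.End.mul_apply, ← map_mul, inv_mul_cancel, map_one]
    rfl
  rwa [h2, h2] at h1

theorem rho_mul (a b : Y) (v : V) : ρ (a * b) v = ρ a (ρ b v) := by
  rw [map_mul]
  rfl

theorem map_mul_rho (a b : Y) : W0.map (ρ (a * b)) = (W0.map (ρ b)).map (ρ a) := by
  rw [← Submodule.map_comp, map_mul]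
  rfl

theorem map_eq_of_le (a : Y) {W : Submodule K V} (h : W.map (ρ a) ≤ W) : W.map (ρ a) = W := by
  apply Submodule.eq_of_le_of_finrank_eq h
  exact (Submodule.equivMapOfInjective (ρ a) (rho_inj ρ a) W).finrank_eq.symm

/-- the number of `z` with a common invariant translate with `x` -/
theorem card_common_le {X : Type*} [Group X] [Finite X] (i : X →* Y) (hi : Function.Injective i) (x : Y) :
    Nat.card {z : X // ∃ y : Y, (W0.map (ρ y)).map (ρ x) ≤ W0.map (ρ y) ∧
      (W0.map (ρ y)).map (ρ (i z)) ≤ W0.map (ρ y)} ≤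
    Nat.card {y : Y // (W0.map (ρ y)).map (ρ x) ≤ W0.map (ρ y)} := by
  classical
  let rep : Submodule K V → Y := fun W => if h : ∃ y, W0.map (ρ y) = W then Classical.choose h else 1
  have hrep : ∀ y : Y, W0.map (ρ (rep (W0.map (ρ y)))) = W0.map (ρ y) := by
    intro y
    have h : ∃ y', W0.map (ρ y') = W0.map (ρ y) := ⟨y, rfl⟩
    simp only [rep, dif_pos h]
    exact Classical.choose_spec h
  let g : {z : X // ∃ y : Y, (W0.map (ρ y)).map (ρ x) ≤ W0.map (ρ y) ∧
      (W0.map (ρ y)).map (ρ (i z)) ≤ W0.map (ρ y)} → Y := fun z => i z.1 * rep (W0.map (ρ (Classical.choose z.2)))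
  have hg : ∀ z, W0.map (ρ (g z)) = W0.map (ρ (Classical.choose z.2)) := by
    intro z
    have h := Classical.choose_spec z.2
    simp only [g]
    rw [map_mul_rho, hrep]
    exact map_eq_of_le ρ _ h.2
  refine Nat.card_le_card_of_injective (fun z => ⟨g z, ?_⟩) ?_
  · rw [hg]
    exact (Classical.choose_spec z.2).1
  · intro z z' hz
    have h1 : g z = g z' := congrArg Subtype.val hz
    have h2 : W0.map (ρ (Classical.choose z.2)) = W0.map (ρ (Classical.choose z'.2)) := by
      rw [← hg, ← hg, h1]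
    simp only [g, h2] at h1
    exact Subtype.ext (hi (mul_right_cancel h1))

/-- eigenvectors (zero included) -/
def Eg (x : V →ₗ[K] V) (v : V) : Prop := ∃ l : K, x v = l • v

/-- at least a quarter of the vectors are not eigenvectors -/
theorem card_noneig (x : V →ₗ[K] V) (U : Submodule K V) (hU : ¬ ∃ l : K, ∀ v ∈ U, x v = l • v) :
    Nat.card U ≤ 4 * Nat.card {v : U // ¬ Eg x v} := by
  classical
  have hsplit : Nat.card U = Nat.card {v : U // Eg x v} + Nat.card {v : U // ¬ Eg x v} := by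
    rw [← Nat.card_sum]
    exact (Nat.card_congr (Equiv.sumCompl fun v : U => Eg x v)).symm
  by_cases h0 : ∀ v ∈ U, Eg x v → v = 0
  · have h1 : Nat.card {v : U // Eg x v} ≤ 1 := by
      rw [Finite.card_le_one_iff_subsingleton]
      refine ⟨fun a b => Subtype.ext (Subtype.ext ?_)⟩
      rw [h0 _ a.1.2 a.2, h0 _ b.1.2 b.2]
    have h2 : 2 ≤ Nat.card U := by
      by_contra hc
      have h3 : Subsingleton U := Finite.card_le_one_iff_subsingleton.1 (by omega)
      apply hU
      refine ⟨0, fun v hv => ?_⟩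
      have : (⟨v, hv⟩ : U) = 0 := Subsingleton.elim _ _
      have h4 : v = 0 := congrArg Subtype.val this
      rw [h4, map_zero, smul_zero]
    omega
  · push Not at h0
    obtain ⟨e, heU, ⟨l, hl⟩, he0⟩ := h0
    -- the eigenspace for `l` inside `U`
    let E : Submodule K V := U ⊓ LinearMap.ker (x - l • LinearMap.id)
    have hE : ∀ v, v ∈ E ↔ v ∈ U ∧ x v = l • v := by
      intro v
      simp only [E, Submodule.mem_inf, LinearMap.mem_ker, LinearMap.sub_apply, LinearMap.smul_apply, LinearMap.id_apply,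
        sub_eq_zero]
    let EU : Submodule K U := E.comap U.subtype
    have hEU : ∀ v : U, v ∈ EU ↔ x v = l • (v : V) := by
      intro v
      change (v : V) ∈ E ↔ _
      rw [hE]
      exact ⟨fun h => h.2, fun h => ⟨v.2, h⟩⟩
    have hfq : Finite (U ⧸ EU) := Finite.of_surjective _ (Submodule.mkQ_surjective EU)
    have hc1 : Nat.card U = Nat.card EU * Nat.card (U ⧸ EU) := by
      have := Submodule.card_eq_card_quotient_mul_card EU
      rw [this, mul_comm]
    have ha : 2 ≤ Nat.card EU := by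
      by_contra hc
      have h3 : Subsingleton EU := Finite.card_le_one_iff_subsingleton.1 (by omega)
      have h4 : (⟨⟨e, heU⟩, (hEU _).2 hl⟩ : EU) = 0 := Subsingleton.elim _ _
      exact he0 (congrArg (fun t : EU => ((t : U) : V)) h4)
    have hb : 2 ≤ Nat.card (U ⧸ EU) := by
      by_contra hc
      have h3 : Subsingleton (U ⧸ EU) := Finite.card_le_one_iff_subsingleton.1 (by omega)
      exact hU ⟨l, fun v hv => (hEU ⟨v, hv⟩).1 ((Submodule.Quotient.mk_eq_zero EU).1 (Subsingleton.elim _ _))⟩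
    -- the eigenvectors outside of `E` inject into the nonzero cosets
    have h1 : Nat.card {v : U // Eg x v} ≤ Nat.card EU + (Nat.card (U ⧸ EU) - 1) := by
      have h2 : Nat.card {v : U // Eg x v} = Nat.card {v : {v : U // Eg x v} // v.1 ∈ EU} +
          Nat.card {v : {v : U // Eg x v} // v.1 ∉ EU} := by
        rw [← Nat.card_sum]
        exact (Nat.card_congr (Equiv.sumCompl fun v : {v : U // Eg x v} => v.1 ∈ EU)).symm
      have h3 : Nat.card {v : {v : U // Eg x v} // v.1 ∈ EU} ≤ Nat.card EU :=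
        Nat.card_le_card_of_injective (fun v => ⟨v.1.1, v.2⟩) fun a b hab =>
          Subtype.ext (Subtype.ext (congrArg (fun t : EU => (t : U)) hab))
      have h4 : Nat.card {v : {v : U // Eg x v} // v.1 ∉ EU} ≤ Nat.card {t : U ⧸ EU // t ≠ 0} := by
        refine Nat.card_le_card_of_injective (fun v => ⟨Submodule.Quotient.mk v.1.1, ?_⟩) ?_
        · rw [ne_eq, Submodule.Quotient.mk_eq_zero]
          exact v.2
        · intro a b hab
          have h5 : (Submodule.Quotient.mk a.1.1 : U ⧸ EU) = Submodule.Quotient.mk b.1.1 := congrArg Subtype.val hab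
          rw [Submodule.Quotient.eq, hEU] at h5
          obtain ⟨m, hm⟩ := a.1.2
          obtain ⟨m', hm'⟩ := b.1.2
          have ha' : x a.1.1 ≠ l • (a.1.1 : V) := fun h => a.2 ((hEU _).2 h)
          have hml : m ≠ l := fun h => ha' (h ▸ hm)
          rw [Submodule.coe_sub, map_sub, hm, hm'] at h5
          -- (m - l) a = (m' - l) b
          have h6 : (m - l) • (a.1.1 : V) = (m' - l) • (b.1.1 : V) := by
            rw [sub_smul, sub_smul]
            rw [smul_sub] at h5
            rw [sub_eq_iff_eq_add] at h5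
            rw [h5]
            abel
          have hml' : m' ≠ l := by
            rintro rfl
            rw [sub_self, zero_smul, smul_eq_zero] at h6
            rcases h6 with h6 | h6
            · exact hml (sub_eq_zero.1 h6)
            · apply ha'
              rw [h6, map_zero, smul_zero]
          -- a = c b
          have h7 : (a.1.1 : V) = ((m - l)⁻¹ * (m' - l)) • (b.1.1 : V) := by
            rw [mul_smul, ← h6, smul_smul, inv_mul_cancel₀ (sub_ne_zero.2 hml), one_smul]
          set c := (m - l)⁻¹ * (m' - l) with hc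
          have hb0 : x b.1.1 ≠ l • (b.1.1 : V) := fun h => b.2 ((hEU _).2 h)
          -- a - b = (c - 1) b is in E
          have h8 : (c - 1) • (m' - l) • (b.1.1 : V) = 0 := by
            have h9 : x ((c - 1) • (b.1.1 : V)) = l • ((c - 1) • (b.1.1 : V)) := by
              have h10 : (c - 1) • (b.1.1 : V) = (a.1.1 : V) - b.1.1 := by rw [sub_smul, one_smul, ← h7]
              rw [h10, map_sub, hm, hm', smul_sub]
              rw [smul_sub] at h5
              exact h5
            rw [map_smul, hm'] at h9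
            rw [sub_smul (m') l, smul_sub, h9, smul_comm l (c - 1), sub_self]
          have hb1 : (b.1.1 : V) ≠ 0 := fun h => hb0 (by rw [h, map_zero, smul_zero])
          rw [smul_smul, smul_eq_zero, mul_eq_zero, sub_eq_zero, sub_eq_zero] at h8
          rcases h8 with (h8 | h8) | h8
          · rw [h8, one_smul] at h7
            exact Subtype.ext (Subtype.ext (Subtype.ext h7))
          · exact absurd h8 hml'
          · exact absurd h8 hb1
      have h5 : Nat.card {t : U ⧸ EU // t ≠ 0} + 1 = Nat.card (U ⧸ EU) := by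
        have h6 : Nat.card (U ⧸ EU) = Nat.card {t : U ⧸ EU // t = 0} + Nat.card {t : U ⧸ EU // t ≠ 0} := by
          rw [← Nat.card_sum]
          exact (Nat.card_congr (Equiv.sumCompl fun t : U ⧸ EU => t = 0)).symm
        have h7 : Nat.card {t : U ⧸ EU // t = 0} = 1 := Nat.card_unique
        omega
      omega
    obtain ⟨a, ha'⟩ := Nat.exists_eq_add_of_le ha
    obtain ⟨b, hb'⟩ := Nat.exists_eq_add_of_le hb
    rw [ha', hb'] at hc1
    rw [ha', hb', show 2 + b - 1 = 1 + b by omega] at h1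
    nlinarith [Nat.zero_le (a * b)]

/-- the number of translates in a subspace -/
theorem card_sub_le {M1 : ℕ} {w : V} (hw : w ∈ W0) (hM : M1 ≤ Nat.card (Set.range fun y : Y => ρ y w))
    (E : Submodule K V) : Nat.card {y : Y // W0.map (ρ y) ≤ E} * M1 ≤ Nat.card E * Nat.card Y := by
  have h1 := card_mul_le (fun y : Y => ρ y w) (fun a b c h => by
    rw [rho_mul, rho_mul]
    exact congrArg _ h) (E : Set V) (Set.toFinite _)
  refine (Nat.mul_le_mul ?_ hM).trans h1
  refine Nat.card_le_card_of_injective (fun y => ⟨y.1, ?_⟩) fun a b hab =>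
    Subtype.ext (by have h := congrArg Subtype.val hab; exact h)
  exact y.2 ⟨w, hw, rfl⟩

/-- the number of translates in the kernel of a functional -/
theorem card_ker_le (c : V →ₗ[K] K) : Nat.card {y : Y // W0.map (ρ y) ≤ LinearMap.ker c} *
      Nat.card (Set.range fun y : Y => c ∘ₗ ρ y) ≤
    Nat.card {d : V →ₗ[K] K // (∃ y, d = c ∘ₗ ρ y) ∧ W0 ≤ LinearMap.ker d} * Nat.card Y := by
  have hfin : Finite (V →ₗ[K] K) := DFunLike.finite _
  have h1 := card_mul_le' (fun y : Y => c ∘ₗ ρ y) (fun a b d h => by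
    change c ∘ₗ ρ a = c ∘ₗ ρ b at h
    change c ∘ₗ ρ (a * d) = c ∘ₗ ρ (b * d)
    rw [map_mul, map_mul]
    change (c ∘ₗ ρ a) ∘ₗ ρ d = (c ∘ₗ ρ b) ∘ₗ ρ d
    rw [h]) {d | (∃ y, d = c ∘ₗ ρ y) ∧ W0 ≤ LinearMap.ker d} (Set.toFinite _)
  refine (Nat.mul_le_mul_right _ ?_).trans h1
  refine Nat.card_le_card_of_injective (fun y => ⟨y.1, ⟨y.1, rfl⟩, ?_⟩)
    fun a b hab => Subtype.ext (by have h := congrArg Subtype.val hab; exact h)
  intro v hv
  exact y.2 ⟨v, hv, rfl⟩

/-- the orbit of `u` under the stabiliser of `v` -/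
def sOrb (v u : V) : Set V := {u' | ∃ s : Y, ρ s v = v ∧ ρ s u = u'}

/-- invariant translates outside of the eigenspaces -/
theorem card_fix_le (x : Y) {M2 : ℕ}
    (hM : ∀ v u : V, v ≠ 0 → (¬ ∃ l : K, u = l • v) → (∃ y : Y, v ∈ W0.map (ρ y) ∧ u ∈ W0.map (ρ y)) →
      M2 ≤ Nat.card (sOrb ρ v u)) :
    Nat.card {y : Y // (W0.map (ρ y)).map (ρ x) ≤ W0.map (ρ y) ∧ ¬ ∃ l : K, ∀ v ∈ W0.map (ρ y), ρ x v = l • v} * M2 ≤
      4 * (Nat.card Y * Nat.card W0) := by
  classical
  set T := {y : Y // (W0.map (ρ y)).map (ρ x) ≤ W0.map (ρ y) ∧ ¬ ∃ l : K, ∀ v ∈ W0.map (ρ y), ρ x v = l • v} with hT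
  -- for a fixed vector of `W0`
  have key : ∀ w : W0, Nat.card {y : Y // ¬ Eg (ρ x) (ρ y w) ∧ ρ x (ρ y w) ∈ W0.map (ρ y)} * M2 ≤
      Nat.card Y * Nat.card W0 := by
    intro w
    let A := {y : Y // ¬ Eg (ρ x) (ρ y w) ∧ ρ x (ρ y w) ∈ W0.map (ρ y)}
    have h1 : Nat.card A * M2 ≤ Nat.card (Σ y : A, sOrb ρ (ρ y.1 w) (ρ x (ρ y.1 w))) := by
      have hfa : ∀ y : A, Finite (sOrb ρ (ρ y.1 w) (ρ x (ρ y.1 w))) := fun _ => inferInstance
      have := Fintype.ofFinite A
      rw [Nat.card_sigma, Nat.card_eq_fintype_card, ← smul_eq_mul, ← Finset.card_univ]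
      refine Finset.card_nsmul_le_sum _ _ _ fun y _ => ?_
      refine hM _ _ ?_ ?_ ?_
      · intro h0
        apply y.2.1
        exact ⟨0, by rw [h0, map_zero, smul_zero]⟩
      · exact y.2.1
      · exact ⟨y.1, ⟨w, w.2, rfl⟩, y.2.2⟩
    refine h1.trans ?_
    rw [← Nat.card_prod]
    -- a choice of stabilising elements
    let s : V → V → V → Y := fun v u u' => if h : ∃ s : Y, ρ s v = v ∧ ρ s u = u' then Classical.choose h else 1
    have hs : ∀ v u u', (∃ s : Y, ρ s v = v ∧ ρ s u = u') → ρ (s v u u') v = v ∧ ρ (s v u u') u = u' := by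
      intro v u u' h
      simp only [s, dif_pos h]
      exact Classical.choose_spec h
    have hw : ∀ p : (Σ y : A, sOrb ρ (ρ y.1 w) (ρ x (ρ y.1 w))), ∃ t : W0,
        ρ (s (ρ p.1.1 w) (ρ x (ρ p.1.1 w)) p.2 * p.1.1) t = p.2 := by
      rintro ⟨y, u', hu'⟩
      obtain ⟨t, ht, ht'⟩ := y.2.2
      refine ⟨⟨t, ht⟩, ?_⟩
      rw [rho_mul]
      change ρ _ (ρ y.1 t) = u'
      rw [ht']
      exact (hs _ _ _ hu').2
    choose t ht using hw
    refine Nat.card_le_card_of_injective
      (fun p => (s (ρ p.1.1 w) (ρ x (ρ p.1.1 w)) p.2 * p.1.1, t p)) ?_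
    rintro p r hpr
    have e1 : s (ρ p.1.1 w) (ρ x (ρ p.1.1 w)) p.2 * p.1.1 = s (ρ r.1.1 w) (ρ x (ρ r.1.1 w)) r.2 * r.1.1 :=
      congrArg Prod.fst hpr
    have e2 : t p = t r := congrArg Prod.snd hpr
    have e3 : (p.2 : V) = r.2 := by rw [← ht p, ← ht r, e1, e2]
    have e4 : ρ p.1.1 w = ρ r.1.1 w := by
      have f1 : ρ (s (ρ p.1.1 w) (ρ x (ρ p.1.1 w)) p.2 * p.1.1) w = ρ p.1.1 w := by
        rw [rho_mul]
        exact (hs _ _ _ p.2.2).1
      have f2 : ρ (s (ρ r.1.1 w) (ρ x (ρ r.1.1 w)) r.2 * r.1.1) w = ρ r.1.1 w := by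
        rw [rho_mul]
        exact (hs _ _ _ r.2.2).1
      rw [← f1, ← f2, e1]
    rw [e3, e4] at e1
    have e5 : p.1.1 = r.1.1 := mul_left_cancel e1
    obtain ⟨⟨py, hpy⟩, ⟨pu, hpu⟩⟩ := p
    obtain ⟨⟨ry, hry⟩, ⟨ru, hru⟩⟩ := r
    simp only at e5 e3
    subst e5
    subst e3
    rfl
  -- sum over the vectors
  have h2 : Nat.card T * Nat.card W0 ≤ 4 * Nat.card (Σ w : W0, {y : Y // ¬ Eg (ρ x) (ρ y w) ∧ ρ x (ρ y w) ∈ W0.map (ρ y)}) := by
    have h3 : Nat.card (Σ y : T, {w : W0 // ¬ Eg (ρ x) (ρ y.1 w)}) ≤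
        Nat.card (Σ w : W0, {y : Y // ¬ Eg (ρ x) (ρ y w) ∧ ρ x (ρ y w) ∈ W0.map (ρ y)}) := by
      refine Nat.card_le_card_of_injective (fun p => ⟨p.2.1, p.1.1, p.2.2, ?_⟩) ?_
      · exact p.1.2.1 ⟨_, ⟨_, p.2.1.2, rfl⟩, rfl⟩
      · rintro ⟨⟨y, hy⟩, ⟨w, hw⟩⟩ ⟨⟨y', hy'⟩, ⟨w', hw'⟩⟩ h
        simp only [Sigma.mk.injEq] at h
        obtain ⟨h1, h2⟩ := h
        subst h1
        have h3 := congrArg Subtype.val (eq_of_heq h2)
        simp only at h3
        subst h3
        rfl
    have h4 : Nat.card T * Nat.card W0 ≤ 4 * Nat.card (Σ y : T, {w : W0 // ¬ Eg (ρ x) (ρ y.1 w)}) := by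
      have := Fintype.ofFinite T
      rw [Nat.card_sigma, Nat.card_eq_fintype_card, Finset.mul_sum, ← Finset.card_univ, ← smul_eq_mul]
      refine Finset.card_nsmul_le_sum _ _ _ fun y _ => ?_
      have h5 := card_noneig (ρ x) (W0.map (ρ y.1)) y.2.2
      let e := Submodule.equivMapOfInjective (ρ y.1) (rho_inj ρ y.1) W0
      rw [← Nat.card_congr e.toEquiv] at h5
      refine h5.trans (Nat.mul_le_mul_left _ (le_of_eq ?_))
      exact (Nat.card_congr (e.toEquiv.subtypeEquiv fun w => Iff.rfl)).symm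
    exact h4.trans (Nat.mul_le_mul_left _ h3)
  have h6 : Nat.card (Σ w : W0, {y : Y // ¬ Eg (ρ x) (ρ y w) ∧ ρ x (ρ y w) ∈ W0.map (ρ y)}) * M2 ≤
      Nat.card W0 * (Nat.card Y * Nat.card W0) := by
    have := Fintype.ofFinite W0
    rw [Nat.card_sigma, Finset.sum_mul]
    refine (Finset.sum_le_card_nsmul _ _ _ fun w _ => key w).trans ?_
    rw [Finset.card_univ, ← Nat.card_eq_fintype_card, smul_eq_mul]
  have hpos : 0 < Nat.card W0 := Nat.card_pos
  have h7 : Nat.card W0 * (Nat.card T * M2) ≤ Nat.card W0 * (4 * (Nat.card Y * Nat.card W0)) := by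
    calc Nat.card W0 * (Nat.card T * M2) = (Nat.card T * Nat.card W0) * M2 := by ring
      _ ≤ _ := Nat.mul_le_mul_right _ h2
      _ = 4 * (Nat.card (Σ w : W0, {y : Y // ¬ Eg (ρ x) (ρ y w) ∧ ρ x (ρ y w) ∈ W0.map (ρ y)}) * M2) := by ring
      _ ≤ _ := Nat.mul_le_mul_left _ h6
      _ = _ := by ring
  exact Nat.le_of_mul_le_mul_left h7 hpos

end Cfsg.Agent.H262.Rx
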