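import Mathlib
import Cfsg.Agent.H262.Rx.Red1

/-!
# S5716, reducible part: the number of translates fixed by a nonscalar element (helper262)
-/

set_option autoImplicit false
set_option linter.unusedSectionVars false
set_option linter.unusedVariables false

namespace Cfsg.Agent.H262.Rx

open Module

universe u v w

variable {K : Type u} {V : Type v} [Field K] [AddCommGroup V] [Module K V] [Finite V] [Finite K]
variable {Y : Type w} [Group Y] [Finite Y] (ρ : Y →* (V →ₗ[K] V)) (W0 : Submodule K V)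

/-- the eigenspace -/
def Es (x : V →ₗ[K] V) (l : K) : Submodule K V := LinearMap.ker (x - l • LinearMap.id)

theorem mem_Es {x : V →ₗ[K] V} {l : K} {v : V} : v ∈ Es x l ↔ x v = l • v := by
  simp only [Es, LinearMap.mem_ker, LinearMap.sub_apply, LinearMap.smul_apply, LinearMap.id_apply, sub_eq_zero]

/-- two different eigenspaces are independent -/
theorem finrank_Es_add {x : V →ₗ[K] V} {l m : K} (h : l ≠ m) : finrank K (Es x l) + finrank K (Es x m) ≤ finrank K V := by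
  have h1 : Disjoint (Es x l) (Es x m) := by
    rw [Submodule.disjoint_def]
    intro v hl hm
    rw [mem_Es] at hl hm
    have h2 : (l - m) • v = 0 := by rw [sub_smul, ← hl, ← hm, sub_self]
    exact (smul_eq_zero.1 h2).resolve_left (sub_ne_zero.2 h)
  have : FiniteDimensional K V := Module.Finite.of_finite
  exact Submodule.finrank_add_finrank_le_of_disjoint h1

/-- a proper subspace lies in the kernel of a nonzero functional -/
theorem exists_ker {E : Submodule K V} (hE : E ≠ ⊤) : ∃ c : V →ₗ[K] K, c ≠ 0 ∧ E ≤ LinearMap.ker c := by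
  obtain ⟨c, hc, hc'⟩ := Submodule.exists_le_ker_of_lt_top E (lt_top_iff_ne_top.2 hE)
  exact ⟨c, hc, hc'⟩

/-- **the number of translates fixed by `x`** -/
theorem fix_le (x : Y) (hx : ¬ ∃ l : K, ∀ v, ρ x v = l • v) {M1 M2 : ℕ} (hM1 : 0 < M1) (hM2 : 0 < M2)
    (h1 : ∃ w ∈ W0, M1 ≤ Nat.card (Set.range fun y : Y => ρ y w))
    (h2 : ∀ v u : V, v ≠ 0 → (¬ ∃ l : K, u = l • v) → (∃ y : Y, v ∈ W0.map (ρ y) ∧ u ∈ W0.map (ρ y)) →
      M2 ≤ Nat.card (sOrb ρ v u)) {p : ℝ} (hp : 0 ≤ p)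
    (h3 : ∀ c : V →ₗ[K] K, c ≠ 0 → (Nat.card {y : Y // W0.map (ρ y) ≤ LinearMap.ker c} : ℝ) ≤ p * Nat.card Y) :
    (Nat.card {y : Y // (W0.map (ρ y)).map (ρ x) ≤ W0.map (ρ y)} : ℝ) ≤
      ((Nat.card K : ℝ) * (Nat.card K : ℝ) ^ (finrank K V / 2) / M1 + p + 4 * Nat.card W0 / M2) * Nat.card Y := by
  classical
  have hfd : FiniteDimensional K V := Module.Finite.of_finite
  have := Fintype.ofFinite K
  have hM1' : (0 : ℝ) < M1 := by exact_mod_cast hM1
  have hM2' : (0 : ℝ) < M2 := by exact_mod_cast hM2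
  set n := finrank K V with hn
  -- the splitting
  have hsplit : (Nat.card {y : Y // (W0.map (ρ y)).map (ρ x) ≤ W0.map (ρ y)} : ℝ) ≤
      ∑ l : K, (Nat.card {y : Y // W0.map (ρ y) ≤ Es (ρ x) l} : ℝ) +
      (Nat.card {y : Y // (W0.map (ρ y)).map (ρ x) ≤ W0.map (ρ y) ∧ ¬ ∃ l : K, ∀ v ∈ W0.map (ρ y), ρ x v = l • v} : ℝ) := by
    have h4 : Nat.card {y : Y // (W0.map (ρ y)).map (ρ x) ≤ W0.map (ρ y)} ≤
        Nat.card ((Σ l : K, {y : Y // W0.map (ρ y) ≤ Es (ρ x) l}) ⊕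
          {y : Y // (W0.map (ρ y)).map (ρ x) ≤ W0.map (ρ y) ∧ ¬ ∃ l : K, ∀ v ∈ W0.map (ρ y), ρ x v = l • v}) := by
      have hch : ∀ y : {y : Y // (W0.map (ρ y)).map (ρ x) ≤ W0.map (ρ y)},
          (∃ l : K, ∀ v ∈ W0.map (ρ y), ρ x v = l • v) → ∃ l : K, W0.map (ρ y.1) ≤ Es (ρ x) l := by
        rintro y ⟨l, hl⟩
        exact ⟨l, fun v hv => mem_Es.2 (hl v hv)⟩
      refine Nat.card_le_card_of_injective (fun y => if h : ∃ l : K, ∀ v ∈ W0.map (ρ y), ρ x v = l • v then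
        Sum.inl ⟨Classical.choose (hch y h), y.1, Classical.choose_spec (hch y h)⟩ else Sum.inr ⟨y.1, y.2, h⟩) ?_
      intro y y' hyy
      by_cases h : ∃ l : K, ∀ v ∈ W0.map (ρ y), ρ x v = l • v
      · by_cases h' : ∃ l : K, ∀ v ∈ W0.map (ρ y'), ρ x v = l • v
        · simp only [dif_pos h, dif_pos h', Sum.inl.injEq, Sigma.mk.injEq] at hyy
          obtain ⟨e1, e2⟩ := hyy
          apply Subtype.ext
          have key : ∀ (l l' : K) (a : {y : Y // W0.map (ρ y) ≤ Es (ρ x) l}) (b : {y : Y // W0.map (ρ y) ≤ Es (ρ x) l'}),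
              l = l' → HEq a b → a.1 = b.1 := by
            rintro l l' a b rfl hab
            rw [eq_of_heq hab]
          exact key _ _ _ _ e1 e2
        · simp only [dif_pos h, dif_neg h'] at hyy
          cases hyy
      · by_cases h' : ∃ l : K, ∀ v ∈ W0.map (ρ y'), ρ x v = l • v
        · simp only [dif_neg h, dif_pos h'] at hyy
          cases hyy
        · simp only [dif_neg h, dif_neg h', Sum.inr.injEq, Subtype.mk.injEq] at hyy
          exact Subtype.ext hyy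
    rw [Nat.card_sum, Nat.card_sigma] at h4
    exact_mod_cast h4
  -- outside of the eigenspaces
  have hout : (Nat.card {y : Y // (W0.map (ρ y)).map (ρ x) ≤ W0.map (ρ y) ∧
      ¬ ∃ l : K, ∀ v ∈ W0.map (ρ y), ρ x v = l • v} : ℝ) ≤ 4 * Nat.card W0 / M2 * Nat.card Y := by
    have h5 := card_fix_le ρ W0 x h2
    rw [div_mul_eq_mul_div, le_div_iff₀ hM2']
    have h6 : ((Nat.card {y : Y // (W0.map (ρ y)).map (ρ x) ≤ W0.map (ρ y) ∧
      ¬ ∃ l : K, ∀ v ∈ W0.map (ρ y), ρ x v = l • v} * M2 : ℕ) : ℝ) ≤ ((4 * (Nat.card Y * Nat.card W0) : ℕ) : ℝ) :=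
      Nat.cast_le.2 h5
    push_cast at h6
    linarith
  -- small eigenspaces
  have hsmall : ∀ l : K, 2 * finrank K (Es (ρ x) l) ≤ n →
      (Nat.card {y : Y // W0.map (ρ y) ≤ Es (ρ x) l} : ℝ) ≤ (Nat.card K : ℝ) ^ (n / 2) / M1 * Nat.card Y := by
    intro l hl
    obtain ⟨w, hw, hM⟩ := h1
    have h5 := card_sub_le ρ W0 hw hM (Es (ρ x) l)
    rw [div_mul_eq_mul_div, le_div_iff₀ hM1']
    have h6 : ((Nat.card {y : Y // W0.map (ρ y) ≤ Es (ρ x) l} * M1 : ℕ) : ℝ) ≤
        ((Nat.card (Es (ρ x) l) * Nat.card Y : ℕ) : ℝ) := Nat.cast_le.2 h5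
    push_cast at h6
    refine h6.trans (mul_le_mul_of_nonneg_right ?_ (Nat.cast_nonneg _))
    have h7 : Nat.card (Es (ρ x) l) = Nat.card K ^ finrank K (Es (ρ x) l) := Module.natCard_eq_pow_finrank
    rw [h7]
    push_cast
    exact pow_le_pow_right₀ (by exact_mod_cast Nat.card_pos (α := K)) (by omega)
  have hlarge : ∀ l : K, (Nat.card {y : Y // W0.map (ρ y) ≤ Es (ρ x) l} : ℝ) ≤ p * Nat.card Y := by
    intro l
    obtain ⟨c, hc, hcE⟩ := exists_ker (E := Es (ρ x) l) (fun h => hx ⟨l, fun v => mem_Es.1 (h ▸ Submodule.mem_top)⟩)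
    refine le_trans ?_ (h3 c hc)
    have : Nat.card {y : Y // W0.map (ρ y) ≤ Es (ρ x) l} ≤ Nat.card {y : Y // W0.map (ρ y) ≤ LinearMap.ker c} :=
      Nat.card_le_card_of_injective (fun y => ⟨y.1, y.2.trans hcE⟩) fun a b hab =>
        Subtype.ext (by have h := congrArg Subtype.val hab; exact h)
    exact_mod_cast this
  have hpowY : (0 : ℝ) ≤ (Nat.card K : ℝ) ^ (n / 2) / M1 * Nat.card Y := by positivity
  have hsum : ∑ l : K, (Nat.card {y : Y // W0.map (ρ y) ≤ Es (ρ x) l} : ℝ) ≤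
      (Nat.card K : ℝ) * ((Nat.card K : ℝ) ^ (n / 2) / M1 * Nat.card Y) + p * Nat.card Y := by
    by_cases hb : ∃ l0 : K, n < 2 * finrank K (Es (ρ x) l0)
    · obtain ⟨l0, hl0⟩ := hb
      rw [← Finset.add_sum_erase _ _ (Finset.mem_univ l0)]
      have h8 : ∑ l ∈ Finset.univ.erase l0, (Nat.card {y : Y // W0.map (ρ y) ≤ Es (ρ x) l} : ℝ) ≤
          (Nat.card K : ℝ) * ((Nat.card K : ℝ) ^ (n / 2) / M1 * Nat.card Y) := by
        refine (Finset.sum_le_card_nsmul _ _ _ fun l hl => hsmall l ?_).trans ?_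
        · have h9 := finrank_Es_add (x := ρ x) (Finset.ne_of_mem_erase hl)
          omega
        · rw [nsmul_eq_mul]
          refine mul_le_mul_of_nonneg_right ?_ hpowY
          rw [Nat.card_eq_fintype_card]
          exact_mod_cast (Finset.card_le_univ _)
      linarith [hlarge l0]
    · push Not at hb
      have h8 : ∑ l : K, (Nat.card {y : Y // W0.map (ρ y) ≤ Es (ρ x) l} : ℝ) ≤
          (Nat.card K : ℝ) * ((Nat.card K : ℝ) ^ (n / 2) / M1 * Nat.card Y) := by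
        refine (Finset.sum_le_card_nsmul _ _ _ fun l _ => hsmall l (hb l)).trans ?_
        rw [nsmul_eq_mul, Finset.card_univ, Nat.card_eq_fintype_card]
      have : 0 ≤ p * Nat.card Y := by positivity
      linarith
  calc _ ≤ _ := hsplit
    _ ≤ (Nat.card K : ℝ) * ((Nat.card K : ℝ) ^ (n / 2) / M1 * Nat.card Y) + p * Nat.card Y +
        4 * Nat.card W0 / M2 * Nat.card Y := add_le_add hsum hout
    _ = _ := by ring

end Cfsg.Agent.H262.Rx
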