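import Mathlib
import Cfsg.Agent.H262.Rx.Red2

/-!
# S5716, reducible part: the sum over the types (helper262)

* `types_le` : the union over a system of types;
* `cover` : an invariant subspace gives a small one which is totally isotropic or nondegenerate.
-/

set_option autoImplicit false
set_option linter.unusedSectionVars false
set_option linter.unusedVariables false

namespace Cfsg.Agent.H262.Rx

open Module

universe u v w

/-- the numbers -/
theorem num_types {q Q C1 : ℝ} (hq : 4 ≤ q) (hqQ : q ≤ Q) (hC1 : 0 ≤ C1) {n h : ℕ} (hh : 4 ≤ h) (hn : 2 * h ≤ n) (b : ℕ → ℝ)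
    (hb0 : ∀ k, 0 ≤ b k) (hb1 : ∀ k, 1 ≤ k → b k ≤ 6 * (q / 2) ^ (k - 1)) (hb2 : ∀ k, 1 ≤ k → b k ≤ 3 * Q * 2 ^ k) :
    ∑ k ∈ Finset.Icc 1 h, b k * (4 * Q ^ (h + 2) / Q ^ n + C1 / q ^ k + 8 * Q ^ (k + 2) / Q ^ n) ≤
      (12 * C1 + 1200) / q := by
  have hq0 : (0 : ℝ) < q := by linarith
  have hQ : 4 ≤ Q := hq.trans hqQ
  have hQ0 : (0 : ℝ) < Q := by linarith
  have key : Q ^ 4 * (2 : ℝ) ^ h ≤ 16 * Q ^ h := by
    obtain ⟨j, rfl⟩ := Nat.exists_eq_add_of_le hh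
    have h1 : (2 : ℝ) ^ j ≤ Q ^ j := pow_le_pow_left₀ (by norm_num) (by linarith) j
    rw [pow_add, pow_add]
    have h2 : (0 : ℝ) < Q ^ 4 := by positivity
    nlinarith
  have hnpow : Q ^ (2 * h) ≤ Q ^ n := pow_le_pow_right₀ (by linarith) hn
  have hQn : (0 : ℝ) < Q ^ n := by positivity
  have hQh : (0 : ℝ) < Q ^ h := by positivity
  -- geometric sums
  have g2 : ∑ k ∈ Finset.Icc 1 h, (2 : ℝ) ^ k ≤ 2 * 2 ^ h := by
    have : ∀ m : ℕ, ∑ k ∈ Finset.Icc 1 m, (2 : ℝ) ^ k ≤ 2 * 2 ^ m := by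
      intro m
      induction m with
      | zero => simp
      | succ m ih =>
        rw [Finset.sum_Icc_succ_top (by omega), pow_succ]
        linarith
    exact this h
  have g3 : ∑ k ∈ Finset.Icc 1 h, (2 * Q) ^ k ≤ 2 * (2 * Q) ^ h := by
    have : ∀ m : ℕ, ∑ k ∈ Finset.Icc 1 m, (2 * Q) ^ k ≤ 2 * (2 * Q) ^ m := by
      intro m
      induction m with
      | zero => simp
      | succ m ih =>
        rw [Finset.sum_Icc_succ_top (by omega), pow_succ]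
        have h1 : (0 : ℝ) < (2 * Q) ^ m := by positivity
        nlinarith
    exact this h
  have g1 : ∑ k ∈ Finset.Icc 1 h, (1 / 2 : ℝ) ^ (k - 1) ≤ 2 := by
    have : ∀ m : ℕ, ∑ k ∈ Finset.Icc 1 m, (1 / 2 : ℝ) ^ (k - 1) ≤ 2 - 2 * (1 / 2) ^ m := by
      intro m
      induction m with
      | zero => simp
      | succ m ih =>
        rw [Finset.sum_Icc_succ_top (by omega), pow_succ, Nat.add_sub_cancel]
        linarith
    have h1 : (0 : ℝ) < (1 / 2) ^ h := by positivity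
    linarith [this h]
  -- the first term
  have tA : ∑ k ∈ Finset.Icc 1 h, b k * (4 * Q ^ (h + 2) / Q ^ n) ≤ 384 / q := by
    have h1 : ∑ k ∈ Finset.Icc 1 h, b k * (4 * Q ^ (h + 2) / Q ^ n) ≤
        ∑ k ∈ Finset.Icc 1 h, (3 * Q * 2 ^ k) * (4 * Q ^ (h + 2) / Q ^ n) :=
      Finset.sum_le_sum fun k hk => mul_le_mul_of_nonneg_right (hb2 k (Finset.mem_Icc.1 hk).1) (by positivity)
    refine h1.trans ?_
    rw [← Finset.sum_mul, ← Finset.mul_sum]
    have h2 : (3 * Q * ∑ k ∈ Finset.Icc 1 h, (2 : ℝ) ^ k) * (4 * Q ^ (h + 2) / Q ^ n) ≤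
        (3 * Q * (2 * 2 ^ h)) * (4 * Q ^ (h + 2) / Q ^ n) :=
      mul_le_mul_of_nonneg_right (mul_le_mul_of_nonneg_left g2 (by positivity)) (by positivity)
    refine h2.trans ?_
    have h3 : (3 * Q * (2 * 2 ^ h)) * (4 * Q ^ (h + 2) / Q ^ n) = 24 * (Q ^ 4 * 2 ^ h) * Q ^ h / Q ^ n / Q := by
      field_simp
      ring
    rw [h3]
    have h4 : 24 * (Q ^ 4 * 2 ^ h) * Q ^ h / Q ^ n ≤ 384 := by
      rw [div_le_iff₀ hQn]
      have h5 : Q ^ (2 * h) = Q ^ h * Q ^ h := by rw [two_mul, pow_add]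
      nlinarith
    calc 24 * (Q ^ 4 * 2 ^ h) * Q ^ h / Q ^ n / Q ≤ 384 / Q := div_le_div_of_nonneg_right h4 hQ0.le
      _ ≤ 384 / q := div_le_div_of_nonneg_left (by norm_num) hq0 hqQ
  have tC : ∑ k ∈ Finset.Icc 1 h, b k * (8 * Q ^ (k + 2) / Q ^ n) ≤ 768 / q := by
    have h1 : ∑ k ∈ Finset.Icc 1 h, b k * (8 * Q ^ (k + 2) / Q ^ n) ≤
        ∑ k ∈ Finset.Icc 1 h, (2 * Q) ^ k * (24 * Q ^ 3 / Q ^ n) := by
      refine Finset.sum_le_sum fun k hk => ?_
      refine (mul_le_mul_of_nonneg_right (hb2 k (Finset.mem_Icc.1 hk).1) (by positivity)).trans (le_of_eq ?_)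
      rw [mul_pow, pow_add]
      field_simp
      ring
    refine h1.trans ?_
    rw [← Finset.sum_mul]
    refine (mul_le_mul_of_nonneg_right g3 (by positivity)).trans ?_
    have h3 : (2 * (2 * Q) ^ h) * (24 * Q ^ 3 / Q ^ n) = 48 * (Q ^ 4 * 2 ^ h) * Q ^ h / Q ^ n / Q := by
      rw [mul_pow]
      field_simp
      ring
    rw [h3]
    have h4 : 48 * (Q ^ 4 * 2 ^ h) * Q ^ h / Q ^ n ≤ 768 := by
      rw [div_le_iff₀ hQn]
      have h5 : Q ^ (2 * h) = Q ^ h * Q ^ h := by rw [two_mul, pow_add]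
      nlinarith
    calc 48 * (Q ^ 4 * 2 ^ h) * Q ^ h / Q ^ n / Q ≤ 768 / Q := div_le_div_of_nonneg_right h4 hQ0.le
      _ ≤ 768 / q := div_le_div_of_nonneg_left (by norm_num) hq0 hqQ
  have tB : ∑ k ∈ Finset.Icc 1 h, b k * (C1 / q ^ k) ≤ 12 * C1 / q := by
    have h1 : ∑ k ∈ Finset.Icc 1 h, b k * (C1 / q ^ k) ≤ ∑ k ∈ Finset.Icc 1 h, (1 / 2 : ℝ) ^ (k - 1) * (6 * C1 / q) := by
      refine Finset.sum_le_sum fun k hk => ?_
      have hk1 := (Finset.mem_Icc.1 hk).1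
      refine (mul_le_mul_of_nonneg_right (hb1 k hk1) (by positivity)).trans (le_of_eq ?_)
      obtain ⟨j, rfl⟩ := Nat.exists_eq_add_of_le hk1
      rw [Nat.add_sub_cancel_left, div_pow, div_pow, one_pow, pow_add, pow_one]
      field_simp
    refine h1.trans ?_
    rw [← Finset.sum_mul]
    refine (mul_le_mul_of_nonneg_right g1 (by positivity)).trans (le_of_eq ?_)
    ring
  have h6 : ∑ k ∈ Finset.Icc 1 h, b k * (4 * Q ^ (h + 2) / Q ^ n + C1 / q ^ k + 8 * Q ^ (k + 2) / Q ^ n) =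
      ∑ k ∈ Finset.Icc 1 h, b k * (4 * Q ^ (h + 2) / Q ^ n) + ∑ k ∈ Finset.Icc 1 h, b k * (C1 / q ^ k) +
        ∑ k ∈ Finset.Icc 1 h, b k * (8 * Q ^ (k + 2) / Q ^ n) := by
    rw [← Finset.sum_add_distrib, ← Finset.sum_add_distrib]
    exact Finset.sum_congr rfl fun k _ => by ring
  rw [h6]
  have h7 : (12 * C1 + 1200) / q = 384 / q + 12 * C1 / q + 768 / q + 48 / q := by ring
  rw [h7]
  have : 0 ≤ 48 / q := by positivity
  linarith

variable {K : Type u} {V : Type v} [Field K] [AddCommGroup V] [Module K V] [Finite V] [Finite K]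
variable {Y : Type w} [Group Y] [Finite Y] (ρ : Y →* (V →ₗ[K] V))

/-- **the union over a system of types** -/
theorem types_le {X : Type*} [Group X] [Finite X] (i : X →* Y) (hi : Function.Injective i) {m : ℝ}
    (hm : (Nat.card Y : ℝ) ≤ m * Nat.card X) (h8 : 8 ≤ finrank K V) {q C1 : ℝ} (hq : 4 ≤ q) (hqQ : q ≤ Nat.card K)
    (hC1 : 0 ≤ C1) (T : ℕ → Finset (Submodule K V)) (hT : ∀ k, ∀ W ∈ T k, finrank K W = k)
    (hb1 : ∀ k, 1 ≤ k → ((T k).card : ℝ) ≤ 6 * (q / 2) ^ (k - 1))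
    (hb2 : ∀ k, 1 ≤ k → ((T k).card : ℝ) ≤ 3 * Nat.card K * 2 ^ k)
    (h1 : ∀ v : V, v ≠ 0 → Nat.card K ^ (finrank K V - 1) ≤ 2 * Nat.card (Set.range fun y : Y => ρ y v))
    (h2 : ∀ v u : V, v ≠ 0 → (¬ ∃ l : K, u = l • v) → Nat.card K ^ (finrank K V - 2) ≤ 2 * Nat.card (sOrb ρ v u))
    (h3 : ∀ k, 1 ≤ k → 2 * k ≤ finrank K V → ∀ W ∈ T k, ∀ c : V →ₗ[K] K, c ≠ 0 →
      (Nat.card {y : Y // W.map (ρ y) ≤ LinearMap.ker c} : ℝ) ≤
        (C1 / q ^ k + 2 * (Nat.card K : ℝ) ^ (finrank K V / 2 + 2) / (Nat.card K : ℝ) ^ finrank K V) * Nat.card Y)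
    (x : X) (hx : ¬ ∃ l : K, ∀ v, ρ (i x) v = l • v) :
    (Nat.card {z : X // ∃ k, 1 ≤ k ∧ 2 * k ≤ finrank K V ∧ ∃ W ∈ T k, ∃ y : Y,
      (W.map (ρ y)).map (ρ (i x)) ≤ W.map (ρ y) ∧ (W.map (ρ y)).map (ρ (i z)) ≤ W.map (ρ y)} : ℝ) ≤
      m * ((12 * C1 + 1200) / q) * Nat.card X := by
  classical
  set n := finrank K V with hn
  set Q : ℝ := (Nat.card K : ℝ) with hQ
  have hq0 : (0 : ℝ) < q := by linarith
  have hQ0 : (0 : ℝ) < Q := by linarith
  have hK2 : 2 ≤ Nat.card K := by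
    have : (4 : ℝ) ≤ (Nat.card K : ℝ) := hq.trans hqQ
    have h4 : 4 ≤ Nat.card K := by exact_mod_cast this
    omega
  -- each type
  have hone : ∀ k, 1 ≤ k → 2 * k ≤ n → ∀ W ∈ T k,
      (Nat.card {z : X // ∃ y : Y, (W.map (ρ y)).map (ρ (i x)) ≤ W.map (ρ y) ∧
        (W.map (ρ y)).map (ρ (i z)) ≤ W.map (ρ y)} : ℝ) ≤
      (4 * Q ^ (n / 2 + 2) / Q ^ n + C1 / q ^ k + 8 * Q ^ (k + 2) / Q ^ n) * Nat.card Y := by
    intro k hk1 hk2 W hW
    have hWk := hT k W hW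
    have h4 : (Nat.card {z : X // ∃ y : Y, (W.map (ρ y)).map (ρ (i x)) ≤ W.map (ρ y) ∧
        (W.map (ρ y)).map (ρ (i z)) ≤ W.map (ρ y)} : ℝ) ≤
        (Nat.card {y : Y // (W.map (ρ y)).map (ρ (i x)) ≤ W.map (ρ y)} : ℝ) := by
      exact_mod_cast card_common_le ρ W i hi (i x)
    refine h4.trans ?_
    have hWne : W ≠ ⊥ := by
      rintro rfl
      rw [finrank_bot] at hWk
      omega
    obtain ⟨w, hw, hw0⟩ := Submodule.exists_mem_ne_zero_of_ne_bot hWne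
    -- the numbers M1, M2
    have hM1 : 0 < Nat.card (Set.range fun y : Y => ρ y w) := by
      have h5 := h1 w hw0
      have h6 : 0 < Nat.card K ^ (n - 1) := by positivity
      omega
    -- M2 as a natural number
    have hM2 : 0 < (Nat.card K ^ (n - 2) + 1) / 2 := by
      have h6 : 0 < Nat.card K ^ (n - 2) := by positivity
      omega
    have h5 := fix_le ρ W (i x) hx hM1 hM2 ⟨w, hw, le_rfl⟩ (fun v u hv hu _ => by
      have := h2 v u hv hu
      omega) (p := C1 / q ^ k + 2 * Q ^ (n / 2 + 2) / Q ^ n) (by positivity) (fun c hc => h3 k hk1 hk2 W hW c hc)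
    refine h5.trans (mul_le_mul_of_nonneg_right ?_ (Nat.cast_nonneg _))
    -- compare
    have e1 : Q * Q ^ (n / 2) / (Nat.card (Set.range fun y : Y => ρ y w) : ℝ) ≤ 2 * Q ^ (n / 2 + 2) / Q ^ n := by
      have h6 : Q ^ (n - 1) ≤ 2 * (Nat.card (Set.range fun y : Y => ρ y w) : ℝ) := by
        have := h1 w hw0
        rw [hQ]
        exact_mod_cast this
      have h7 : (0 : ℝ) < (Nat.card (Set.range fun y : Y => ρ y w) : ℝ) := by exact_mod_cast hM1
      rw [div_le_div_iff₀ h7 (by positivity)]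
      have h8' : Q ^ n = Q * Q ^ (n - 1) := by rw [← pow_succ']; congr 1; omega
      rw [h8', pow_add]
      have h9 : 0 < Q ^ (n / 2) := by positivity
      have h10 : Q * Q ^ (n / 2) * (Q * Q ^ (n - 1)) ≤ Q * Q ^ (n / 2) * (Q * (2 * (Nat.card (Set.range fun y : Y => ρ y w) : ℝ))) :=
        mul_le_mul_of_nonneg_left (mul_le_mul_of_nonneg_left h6 hQ0.le) (by positivity)
      refine h10.trans (le_of_eq ?_)
      ring
    have e2 : 4 * (Nat.card W : ℝ) / (((Nat.card K ^ (n - 2) + 1) / 2 : ℕ) : ℝ) ≤ 8 * Q ^ (k + 2) / Q ^ n := by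
      have h6 : Q ^ (n - 2) ≤ 2 * (((Nat.card K ^ (n - 2) + 1) / 2 : ℕ) : ℝ) := by
        have : Nat.card K ^ (n - 2) ≤ 2 * ((Nat.card K ^ (n - 2) + 1) / 2) := by omega
        rw [hQ]
        exact_mod_cast this
      have h7 : (0 : ℝ) < (((Nat.card K ^ (n - 2) + 1) / 2 : ℕ) : ℝ) := by exact_mod_cast hM2
      have h7' : (Nat.card W : ℝ) = Q ^ k := by
        have : Nat.card W = Nat.card K ^ finrank K W := Module.natCard_eq_pow_finrank
        rw [this, hWk]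
        push_cast
        rfl
      rw [h7', div_le_div_iff₀ h7 (by positivity)]
      have h8' : Q ^ n = Q ^ 2 * Q ^ (n - 2) := by rw [← pow_add]; congr 1; omega
      rw [h8', pow_add]
      have h10 : 4 * Q ^ k * (Q ^ 2 * Q ^ (n - 2)) ≤ 4 * Q ^ k * (Q ^ 2 * (2 * (((Nat.card K ^ (n - 2) + 1) / 2 : ℕ) : ℝ))) :=
        mul_le_mul_of_nonneg_left (mul_le_mul_of_nonneg_left h6 (by positivity)) (by positivity)
      refine h10.trans (le_of_eq ?_)
      ring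
    have e3 : 4 * Q ^ (n / 2 + 2) / Q ^ n = 2 * Q ^ (n / 2 + 2) / Q ^ n + 2 * Q ^ (n / 2 + 2) / Q ^ n := by ring
    rw [e3]
    linarith
  -- the union
  have hun : (Nat.card {z : X // ∃ k, 1 ≤ k ∧ 2 * k ≤ n ∧ ∃ W ∈ T k, ∃ y : Y,
      (W.map (ρ y)).map (ρ (i x)) ≤ W.map (ρ y) ∧ (W.map (ρ y)).map (ρ (i z)) ≤ W.map (ρ y)} : ℝ) ≤
      ∑ k ∈ Finset.Icc 1 (n / 2), ∑ W ∈ T k,
        (Nat.card {z : X // ∃ y : Y, (W.map (ρ y)).map (ρ (i x)) ≤ W.map (ρ y) ∧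
          (W.map (ρ y)).map (ρ (i z)) ≤ W.map (ρ y)} : ℝ) := by
    have hX := Fintype.ofFinite X
    have hc : ∀ P : X → Prop, (Nat.card {z : X // P z} : ℝ) = ((Finset.univ.filter P).card : ℝ) := by
      intro P
      rw [Nat.card_eq_fintype_card, Fintype.card_subtype]
    rw [hc]
    simp only [hc]
    have hsub : (Finset.univ.filter fun z : X => ∃ k, 1 ≤ k ∧ 2 * k ≤ n ∧ ∃ W ∈ T k, ∃ y : Y,
      (W.map (ρ y)).map (ρ (i x)) ≤ W.map (ρ y) ∧ (W.map (ρ y)).map (ρ (i z)) ≤ W.map (ρ y)) ⊆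
      (Finset.Icc 1 (n / 2)).biUnion fun k => (T k).biUnion fun W => Finset.univ.filter fun z : X =>
        ∃ y : Y, (W.map (ρ y)).map (ρ (i x)) ≤ W.map (ρ y) ∧ (W.map (ρ y)).map (ρ (i z)) ≤ W.map (ρ y) := by
      intro z hz
      obtain ⟨k, hk1, hk2, W, hW, y, hy⟩ := (Finset.mem_filter.1 hz).2
      refine Finset.mem_biUnion.2 ⟨k, Finset.mem_Icc.2 ⟨hk1, by omega⟩, Finset.mem_biUnion.2 ⟨W, hW, ?_⟩⟩
      exact Finset.mem_filter.2 ⟨Finset.mem_univ _, y, hy⟩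
    have h5 := (Finset.card_le_card hsub).trans (Finset.card_biUnion_le.trans
      (Finset.sum_le_sum fun k _ => Finset.card_biUnion_le))
    exact_mod_cast h5
  refine hun.trans ?_
  have h5 : ∑ k ∈ Finset.Icc 1 (n / 2), ∑ W ∈ T k,
        (Nat.card {z : X // ∃ y : Y, (W.map (ρ y)).map (ρ (i x)) ≤ W.map (ρ y) ∧
          (W.map (ρ y)).map (ρ (i z)) ≤ W.map (ρ y)} : ℝ) ≤
      ∑ k ∈ Finset.Icc 1 (n / 2), ((T k).card : ℝ) *
        (4 * Q ^ (n / 2 + 2) / Q ^ n + C1 / q ^ k + 8 * Q ^ (k + 2) / Q ^ n) * Nat.card Y := by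
    refine Finset.sum_le_sum fun k hk => ?_
    obtain ⟨hk1, hk2⟩ := Finset.mem_Icc.1 hk
    refine (Finset.sum_le_card_nsmul _ _ _ fun W hW => hone k hk1 (by omega) W hW).trans (le_of_eq ?_)
    rw [nsmul_eq_mul, mul_assoc]
  refine h5.trans ?_
  rw [← Finset.sum_mul]
  have h6 := num_types (q := q) (Q := Q) (C1 := C1) hq hqQ hC1 (n := n) (h := n / 2) (by omega) (by omega)
    (fun k => ((T k).card : ℝ)) (fun k => Nat.cast_nonneg _) hb1 hb2
  calc _ ≤ (12 * C1 + 1200) / q * Nat.card Y := mul_le_mul_of_nonneg_right h6 (Nat.cast_nonneg _)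
    _ ≤ (12 * C1 + 1200) / q * (m * Nat.card X) := mul_le_mul_of_nonneg_left hm (by positivity)
    _ = _ := by ring

/-- invariant subspaces: a small totally isotropic or nondegenerate one -/
theorem cover (perp : Submodule K V → Submodule K V) (hfr : ∀ W, finrank K (perp W) + finrank K W = finrank K V)
    (hle : ∀ W, W ≤ perp (perp W)) (hanti : ∀ A B, A ≤ B → perp B ≤ perp A) (P : Submodule K V → Prop) (hinv : ∀ W, P W → P (perp W))
    (hinf : ∀ W W', P W → P W' → P (W ⊓ W')) {W : Submodule K V} (hW : P W) (h0 : W ≠ ⊥) (h1 : W ≠ ⊤) :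
    ∃ R : Submodule K V, P R ∧ R ≠ ⊥ ∧ 2 * finrank K R ≤ finrank K V ∧ (R ≤ perp R ∨ R ⊓ perp R = ⊥) := by
  have hfd : FiniteDimensional K V := Module.Finite.of_finite
  have hpp : ∀ W, perp (perp W) = W := by
    intro W
    have h2 := hfr W
    have h3 := hfr (perp W)
    exact (Submodule.eq_of_le_of_finrank_eq (hle W) (by omega)).symm
  by_cases hR : W ⊓ perp W = ⊥
  · rcases Nat.lt_or_ge (finrank K V) (2 * finrank K W) with h2 | h2
    · refine ⟨perp W, hinv W hW, ?_, ?_, Or.inr ?_⟩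
      · intro h3
        have h4 := hfr W
        rw [h3, finrank_bot, zero_add] at h4
        exact h1 (Submodule.eq_top_of_finrank_eq h4)
      · have := hfr W
        omega
      · rw [hpp, inf_comm]
        exact hR
    · exact ⟨W, hW, h0, h2, Or.inr hR⟩
  · refine ⟨W ⊓ perp W, hinf _ _ hW (hinv W hW), hR, ?_, Or.inl ?_⟩
    · have h2 := hfr W
      have h3 : finrank K (W ⊓ perp W : Submodule K V) ≤ finrank K W := Submodule.finrank_mono inf_le_left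
      have h4 : finrank K (W ⊓ perp W : Submodule K V) ≤ finrank K (perp W) := Submodule.finrank_mono inf_le_right
      omega
    · exact inf_le_right.trans (hanti _ _ inf_le_left)

end Cfsg.Agent.H262.Rx
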