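import Mathlib
import Cfsg.Agent.H262.Rx.Red3

/-!
# S5716, reducible part: kinds of subspaces (helper262)

* `red_of_kinds` : the final form, with kinds `κ k` of `k`-dimensional subspaces;
* `three_of_trans` : hypothesis (3) when the group is transitive on functionals;
* `cover_bilin` : the cover for a nondegenerate reflexive bilinear form.
-/

set_option autoImplicit false
set_option linter.unusedSectionVars false
set_option linter.unusedVariables false

namespace Cfsg.Agent.H262.Rx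

open Module

universe u v w

/-- `y` and `x` have a common invariant subspace -/
def Red {X K V : Type*} [Field K] [AddCommGroup V] [Module K V] [Group X] (τ : X →* (V →ₗ[K] V)) (x y : X) : Prop :=
  ∃ W : Submodule K V, W ≠ ⊥ ∧ W ≠ ⊤ ∧ W.map (τ x) ≤ W ∧ W.map (τ y) ≤ W

variable {K : Type u} {V : Type v} [Field K] [AddCommGroup V] [Module K V] [Finite V] [Finite K]
variable {Y : Type w} [Group Y] [Finite Y] (ρ : Y →* (V →ₗ[K] V))

/-- **the final form** -/
theorem red_of_kinds {X : Type*} [Group X] [Finite X] (i : X →* Y) (hi : Function.Injective i) {m : ℝ}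
    (hm : (Nat.card Y : ℝ) ≤ m * Nat.card X) (h8 : 8 ≤ finrank K V) {q C1 : ℝ} (hq : 4 ≤ q) (hqQ : q ≤ Nat.card K)
    (hC1 : 0 ≤ C1) (κ : ℕ → Type) [∀ k, Fintype (κ k)] (P : ∀ k, κ k → Submodule K V → Prop)
    (hb1 : ∀ k, 1 ≤ k → (Fintype.card (κ k) : ℝ) ≤ 6 * (q / 2) ^ (k - 1))
    (hb2 : ∀ k, 1 ≤ k → (Fintype.card (κ k) : ℝ) ≤ 3 * Nat.card K * 2 ^ k)
    (htr : ∀ k, 1 ≤ k → 2 * k ≤ finrank K V → ∀ j : κ k, ∀ W W' : Submodule K V, P k j W → P k j W' → finrank K W = k →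
      finrank K W' = k → ∃ y : Y, W.map (ρ y) = W')
    (h1 : ∀ v : V, v ≠ 0 → Nat.card K ^ (finrank K V - 1) ≤ 2 * Nat.card (Set.range fun y : Y => ρ y v))
    (h2 : ∀ v u : V, v ≠ 0 → (¬ ∃ l : K, u = l • v) → Nat.card K ^ (finrank K V - 2) ≤ 2 * Nat.card (sOrb ρ v u))
    (h3 : ∀ k, 1 ≤ k → 2 * k ≤ finrank K V → ∀ j : κ k, ∀ W : Submodule K V, P k j W → finrank K W = k →
      ∀ c : V →ₗ[K] K, c ≠ 0 → (Nat.card {y : Y // W.map (ρ y) ≤ LinearMap.ker c} : ℝ) ≤
        (C1 / q ^ k + 2 * (Nat.card K : ℝ) ^ (finrank K V / 2 + 2) / (Nat.card K : ℝ) ^ finrank K V) * Nat.card Y)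
    (x : X) (hx : ¬ ∃ l : K, ∀ v, ρ (i x) v = l • v)
    (hcov : ∀ z : X, (∃ W : Submodule K V, W ≠ ⊥ ∧ W ≠ ⊤ ∧ W.map (ρ (i x)) ≤ W ∧ W.map (ρ (i z)) ≤ W) →
      ∃ k, 1 ≤ k ∧ 2 * k ≤ finrank K V ∧ ∃ (j : κ k) (R : Submodule K V), finrank K R = k ∧ P k j R ∧
        R.map (ρ (i x)) ≤ R ∧ R.map (ρ (i z)) ≤ R) :
    (Nat.card {z : X // Red (ρ.comp i) x z} : ℝ) ≤ m * ((12 * C1 + 1200) / q) * Nat.card X := by
  classical
  let S : (k : ℕ) → κ k → Submodule K V := fun k j =>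
    if h : ∃ W : Submodule K V, P k j W ∧ finrank K W = k then Classical.choose h else ⊥
  let T : ℕ → Finset (Submodule K V) := fun k =>
    (Finset.univ.filter fun j : κ k => ∃ W : Submodule K V, P k j W ∧ finrank K W = k).image (S k)
  have hS : ∀ k (j : κ k), (∃ W : Submodule K V, P k j W ∧ finrank K W = k) → P k j (S k j) ∧ finrank K (S k j) = k := by
    intro k j h
    have e : S k j = Classical.choose h := dif_pos h
    rw [e]
    exact Classical.choose_spec h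
  have hTm : ∀ k, ∀ W ∈ T k, ∃ j : κ k, P k j W ∧ finrank K W = k := by
    intro k W hW
    obtain ⟨j, hj, rfl⟩ := Finset.mem_image.1 hW
    exact ⟨j, hS k j (Finset.mem_filter.1 hj).2⟩
  have hcard : ∀ k, (T k).card ≤ Fintype.card (κ k) := by
    intro k
    refine Finset.card_image_le.trans ?_
    exact (Finset.card_le_univ _)
  have h := types_le ρ i hi hm h8 hq hqQ hC1 T (fun k W hW => (hTm k W hW).choose_spec.2)
    (fun k hk => le_trans (by exact_mod_cast hcard k) (hb1 k hk))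
    (fun k hk => le_trans (by exact_mod_cast hcard k) (hb2 k hk)) h1 h2
    (fun k hk1 hk2 W hW c hc => by
      obtain ⟨j, hj, hd⟩ := hTm k W hW
      exact h3 k hk1 hk2 j W hj hd c hc) x hx
  refine le_trans ?_ h
  have h4 : Nat.card {z : X // Red (ρ.comp i) x z} ≤
      Nat.card {z : X // ∃ k, 1 ≤ k ∧ 2 * k ≤ finrank K V ∧ ∃ W ∈ T k, ∃ y : Y,
      (W.map (ρ y)).map (ρ (i x)) ≤ W.map (ρ y) ∧ (W.map (ρ y)).map (ρ (i z)) ≤ W.map (ρ y)} := by
    refine Nat.card_le_card_of_injective (fun z => ⟨z.1, ?_⟩) fun a b hab =>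
      Subtype.ext (by have h := congrArg Subtype.val hab; exact h)
    obtain ⟨k, hk1, hk2, j, R, hR, hP, hRx, hRz⟩ := hcov z.1 z.2
    have hex : ∃ W : Submodule K V, P k j W ∧ finrank K W = k := ⟨R, hP, hR⟩
    obtain ⟨hS1, hS2⟩ := hS k j hex
    obtain ⟨y, hy⟩ := htr k hk1 hk2 j (S k j) R hS1 hP hS2 hR
    refine ⟨k, hk1, hk2, S k j, Finset.mem_image.2 ⟨j, Finset.mem_filter.2 ⟨Finset.mem_univ _, hex⟩, rfl⟩, y, ?_⟩
    rw [hy]
    exact ⟨hRx, hRz⟩
  exact_mod_cast h4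

/-- functionals vanishing on a subspace -/
theorem card_annih (W : Submodule K V) :
    Nat.card {d : V →ₗ[K] K // W ≤ LinearMap.ker d} = Nat.card K ^ (finrank K V - finrank K W) := by
  have hfd : FiniteDimensional K V := Module.Finite.of_finite
  have h1 : finrank K W.dualAnnihilator = finrank K V - finrank K W := by
    have := Subspace.finrank_add_finrank_dualAnnihilator_eq W
    omega
  rw [← h1]
  have h2 : Nat.card W.dualAnnihilator = Nat.card K ^ finrank K W.dualAnnihilator :=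
    Module.natCard_eq_pow_finrank (K := K) (V := ↥W.dualAnnihilator)
  rw [← h2]
  refine Nat.card_congr (Equiv.subtypeEquivRight fun d => ?_)
  rw [Submodule.mem_dualAnnihilator]
  exact ⟨fun h v hv => h hv, fun h v hv => h v hv⟩

/-- hypothesis (3) from a lower bound for the orbits on functionals -/
theorem three_of_orb (W : Submodule K V) (c : V →ₗ[K] K) {M : ℝ} (hM : 0 < M)
    (horb : M ≤ (Nat.card (Set.range fun y : Y => c ∘ₗ ρ y) : ℝ)) :
    (Nat.card {y : Y // W.map (ρ y) ≤ LinearMap.ker c} : ℝ) ≤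
      ((Nat.card K : ℝ) ^ (finrank K V - finrank K W) / M) * Nat.card Y := by
  have hfin : Finite (V →ₗ[K] K) := DFunLike.finite _
  have h1 := card_ker_le ρ W c
  have h2 : Nat.card {d : V →ₗ[K] K // (∃ y, d = c ∘ₗ ρ y) ∧ W ≤ LinearMap.ker d} ≤
      Nat.card K ^ (finrank K V - finrank K W) := by
    rw [← card_annih W]
    exact Nat.card_le_card_of_injective (fun d => ⟨d.1, d.2.2⟩) fun a b hab =>
      Subtype.ext (by have h := congrArg Subtype.val hab; exact h)
  have h3 : (Nat.card {y : Y // W.map (ρ y) ≤ LinearMap.ker c} : ℝ) *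
      (Nat.card (Set.range fun y : Y => c ∘ₗ ρ y) : ℝ) ≤
      (Nat.card K : ℝ) ^ (finrank K V - finrank K W) * Nat.card Y := by
    exact_mod_cast h1.trans (Nat.mul_le_mul_right _ h2)
  rw [div_mul_eq_mul_div, le_div_iff₀ hM]
  exact (mul_le_mul_of_nonneg_left horb (Nat.cast_nonneg _)).trans h3

/-- hypothesis (3) when the group is transitive on the nonzero functionals -/
theorem three_of_trans (W : Submodule K V) {k : ℕ} (hk : 1 ≤ finrank K V) (hW : finrank K W = k) (c : V →ₗ[K] K)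
    (htr : ∀ d : V →ₗ[K] K, d ≠ 0 → ∃ y : Y, c ∘ₗ ρ y = d) :
    (Nat.card {y : Y // W.map (ρ y) ≤ LinearMap.ker c} : ℝ) ≤ (2 / (Nat.card K : ℝ) ^ k) * Nat.card Y := by
  classical
  have hfd : FiniteDimensional K V := Module.Finite.of_finite
  have hF : 2 ≤ Nat.card K := Finite.one_lt_card
  have hF0 : (0 : ℝ) < Nat.card K := by exact_mod_cast (by omega : 0 < Nat.card K)
  have hfin : Finite (V →ₗ[K] K) := DFunLike.finite _
  set n := finrank K V with hn
  have h3 : Nat.card K ^ n - 1 ≤ Nat.card (Set.range fun y : Y => c ∘ₗ ρ y) := by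
    have h4 : (Set.univ \ {0} : Set (V →ₗ[K] K)) ⊆ Set.range fun y : Y => c ∘ₗ ρ y := by
      intro d hd
      obtain ⟨y, hy⟩ := htr d fun h => hd.2 h
      exact ⟨y, hy⟩
    have h5 := Nat.card_mono (Set.toFinite _) h4
    have h6 : Nat.card (Set.univ \ {0} : Set (V →ₗ[K] K)) = Nat.card K ^ n - 1 := by
      rw [Nat.card_coe_set_eq, Set.ncard_sdiff_singleton_of_mem (Set.mem_univ _), Set.ncard_univ]
      have h7 : Nat.card (V →ₗ[K] K) = Nat.card K ^ finrank K (V →ₗ[K] K) :=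
        Module.natCard_eq_pow_finrank
      rw [h7, Module.finrank_linearMap, finrank_self, mul_one]
    rwa [h6] at h5
  have h4 : Nat.card K ^ n ≤ 2 * Nat.card (Set.range fun y : Y => c ∘ₗ ρ y) := by
    have h5 : 2 ≤ Nat.card K ^ n := hF.trans (Nat.le_self_pow (by omega) _)
    omega
  have h5 : (Nat.card K : ℝ) ^ n / 2 ≤ (Nat.card (Set.range fun y : Y => c ∘ₗ ρ y) : ℝ) := by
    have : (Nat.card K : ℝ) ^ n ≤ 2 * (Nat.card (Set.range fun y : Y => c ∘ₗ ρ y) : ℝ) := by exact_mod_cast h4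
    linarith
  refine (three_of_orb ρ W c (by positivity) h5).trans (mul_le_mul_of_nonneg_right (le_of_eq ?_) (Nat.cast_nonneg _))
  have hkn : k ≤ n := hW ▸ Submodule.finrank_le W
  rw [hW, div_div_eq_mul_div, div_eq_div_iff (by positivity) (by positivity)]
  have h6 : (Nat.card K : ℝ) ^ n = (Nat.card K : ℝ) ^ (n - k) * (Nat.card K : ℝ) ^ k := by
    rw [← pow_add]
    congr 1
    omega
  rw [h6]
  ring

/-- invariance of the orthogonal space -/
theorem orth_inv {B : LinearMap.BilinForm K V} (hρ : ∀ (y : Y) (u v : V), B (ρ y u) (ρ y v) = B u v)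
    {W : Submodule K V} {y : Y} (h : W.map (ρ y) ≤ W) : (B.orthogonal W).map (ρ y) ≤ B.orthogonal W := by
  have h1 : W.map (ρ y) = W := map_eq_of_le ρ y h
  rintro _ ⟨u, hu, rfl⟩
  rw [LinearMap.BilinForm.mem_orthogonal_iff]
  intro w hw
  rw [← h1] at hw
  obtain ⟨w', hw', rfl⟩ := hw
  change B _ _ = 0
  rw [hρ]
  exact LinearMap.BilinForm.mem_orthogonal_iff.1 hu w' hw'

/-- the cover for a nondegenerate reflexive bilinear form -/
theorem cover_bilin {B : LinearMap.BilinForm K V} (hB : B.Nondegenerate) (hr : B.IsRefl)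
    (hρ : ∀ (y : Y) (u v : V), B (ρ y u) (ρ y v) = B u v) {a b : Y}
    (h : ∃ W : Submodule K V, W ≠ ⊥ ∧ W ≠ ⊤ ∧ W.map (ρ a) ≤ W ∧ W.map (ρ b) ≤ W) :
    ∃ R : Submodule K V, (R.map (ρ a) ≤ R ∧ R.map (ρ b) ≤ R) ∧ R ≠ ⊥ ∧ 2 * finrank K R ≤ finrank K V ∧
      (R ≤ B.orthogonal R ∨ R ⊓ B.orthogonal R = ⊥) := by
  have hfd : FiniteDimensional K V := Module.Finite.of_finite
  obtain ⟨W, h0, h1, ha, hb⟩ := h
  refine cover (K := K) (V := V) B.orthogonal (fun W => ?_) (fun W => ?_) (fun A C hAC => ?_)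
    (fun R => R.map (ρ a) ≤ R ∧ R.map (ρ b) ≤ R) (fun W hW => ⟨orth_inv ρ hρ hW.1, orth_inv ρ hρ hW.2⟩)
    (fun W W' hW hW' => ⟨?_, ?_⟩) (W := W) ⟨ha, hb⟩ h0 h1
  · have h2 := LinearMap.BilinForm.finrank_orthogonal hB W
    have h3 := Submodule.finrank_le W
    omega
  · exact LinearMap.BilinForm.le_orthogonal_orthogonal hr
  · exact LinearMap.BilinForm.orthogonal_le hAC
  · exact (Submodule.map_inf_le _).trans (inf_le_inf hW.1 hW'.1)
  · exact (Submodule.map_inf_le _).trans (inf_le_inf hW.2 hW'.2)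

/-- orbits of the stabiliser of a vector: a bound from a set of images -/
theorem two_of_sub {S : Set V} {v u : V} (hS : S ⊆ sOrb ρ v u) {N : ℕ} (hN : N ≤ 2 * Nat.card S) :
    N ≤ 2 * Nat.card (sOrb ρ v u) :=
  hN.trans (Nat.mul_le_mul_left _ (Nat.card_mono (Set.toFinite _) hS))

end Cfsg.Agent.H262.Rx
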