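import Mathlib
import Cfsg.Agent.H262.Rx.Red4
import Cfsg.Agent.H105.SLExt
import Cfsg.Agent.H141.Rg.Act

/-!
# S5716, reducible part: `SL_n(F)` (helper262)
-/

set_option autoImplicit false
set_option linter.unusedSectionVars false
set_option linter.unusedVariables false

namespace Cfsg.Agent.H262.Rx

open Module Cfsg.Agent.H141.Rg

section Lin

variable {K V : Type*} [Field K] [AddCommGroup V] [Module K V] [FiniteDimensional K V]

/-- extending a family by a vector outside of its span -/
theorem exists_not_mem {W : Submodule K V} (h : finrank K W < finrank K V) : ∃ t, t ∉ W := by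
  by_contra hc
  push Not at hc
  have : W = ⊤ := Submodule.eq_top_iff'.2 hc
  rw [this, finrank_top] at h
  omega

/-- `SL(V)` is transitive on small families -/
theorem exists_sl_small {ι : Type*} [Fintype ι] {u v : ι → V} (hu : LinearIndependent K u)
    (hv : LinearIndependent K v) (h : Fintype.card ι < finrank K V) :
    ∃ g : SpecialLinearGroup K V, ∀ i, g.1 (u i) = v i := by
  obtain ⟨s, hs⟩ := exists_not_mem (K := K) (V := V) (W := Submodule.span K (Set.range u)) (by
    rwa [finrank_span_eq_card hu])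
  obtain ⟨t, ht⟩ := exists_not_mem (K := K) (V := V) (W := Submodule.span K (Set.range v)) (by
    rwa [finrank_span_eq_card hv])
  obtain ⟨g, c, -, hg⟩ := H105.exists_sl (u := fun o : Option ι => (o.casesOn' s u : V))
    (v := fun o : Option ι => (o.casesOn' t v : V)) (linearIndependent_option'.2 ⟨hu, hs⟩)
    (linearIndependent_option'.2 ⟨hv, ht⟩) none
  exact ⟨g, fun i => hg (some i) (by simp)⟩

/-- `SL(V)` is transitive on subspaces of a given dimension -/
theorem exists_sl_sub {W W' : Submodule K V} (h : finrank K W = finrank K W') (h0 : 0 < finrank K W) :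
    ∃ g : SpecialLinearGroup K V, W.map (g.1 : V →ₗ[K] V) = W' := by
  let b := finBasis K W
  let b' := (finBasis K W').reindex (finCongr h.symm)
  have hb : LinearIndependent K (fun i => (b i : V)) := b.linearIndependent.map' W.subtype (Submodule.ker_subtype W)
  have hb' : LinearIndependent K (fun i => (b' i : V)) :=
    b'.linearIndependent.map' W'.subtype (Submodule.ker_subtype W')
  obtain ⟨g, c, hg0, hg⟩ := H105.exists_sl hb hb' ⟨0, h0⟩
  refine ⟨g, ?_⟩
  refine Submodule.eq_of_le_of_finrank_eq ?_ ?_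
  · rw [Submodule.map_le_iff_le_comap]
    have h1 : W = Submodule.span K (Set.range fun i => (b i : V)) := by
      have := b.span_eq
      have h2 : (Submodule.span K (Set.range b)).map W.subtype = W := by rw [this, Submodule.map_subtype_top]
      rw [Submodule.map_span, ← Set.range_comp] at h2
      exact h2.symm
    rw [h1, Submodule.span_le]
    rintro _ ⟨i, rfl⟩
    rw [SetLike.mem_coe, Submodule.mem_comap]
    by_cases hi : i = ⟨0, h0⟩
    · rw [hi]
      change g.1 (b _ : V) ∈ W'
      rw [hg0]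
      exact W'.smul_mem _ (b' _).2
    · change g.1 (b i : V) ∈ W'
      rw [hg i hi]
      exact (b' i).2
  · rw [← h]
    exact LinearEquiv.finrank_map_eq g.1 W

/-- `SL(V)` is transitive on functionals -/
theorem exists_sl_fun {c d : V →ₗ[K] K} (hc : c ≠ 0) (hd : d ≠ 0) (hn : 2 ≤ finrank K V) :
    ∃ g : SpecialLinearGroup K V, c ∘ₗ (g.1 : V →ₗ[K] V) = d := by
  have hdim : ∀ e : V →ₗ[K] K, e ≠ 0 → finrank K (LinearMap.ker e) = finrank K V - 1 := by
    intro e he
    have h1 := LinearMap.finrank_range_add_finrank_ker e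
    have h2 : LinearMap.range e = ⊤ := LinearMap.range_eq_top.2 (LinearMap.surjective he)
    rw [h2, finrank_top, finrank_self] at h1
    omega
  obtain ⟨v0, hv0⟩ : ∃ v, d v = 1 := (LinearMap.surjective hd) 1
  obtain ⟨v1, hv1⟩ : ∃ v, c v = 1 := (LinearMap.surjective hc) 1
  let b := (finBasis K (LinearMap.ker d)).reindex (finCongr (hdim d hd))
  let b' := (finBasis K (LinearMap.ker c)).reindex (finCongr (hdim c hc))
  have hb : LinearIndependent K (fun i => (b i : V)) :=
    b.linearIndependent.map' (LinearMap.ker d).subtype (Submodule.ker_subtype _)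
  have hb' : LinearIndependent K (fun i => (b' i : V)) :=
    b'.linearIndependent.map' (LinearMap.ker c).subtype (Submodule.ker_subtype _)
  have hsp : ∀ (e : V →ₗ[K] K) (f : Basis (Fin (finrank K V - 1)) K (LinearMap.ker e)) (v : V), e v = 1 →
      v ∉ Submodule.span K (Set.range fun i => (f i : V)) := by
    intro e f v hv hmem
    have h1 : Submodule.span K (Set.range fun i => (f i : V)) ≤ LinearMap.ker e := by
      rw [Submodule.span_le]
      rintro _ ⟨i, rfl⟩
      exact (f i).2
    have h2 := h1 hmem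
    rw [LinearMap.mem_ker, hv] at h2
    exact one_ne_zero h2
  have hu : LinearIndependent K (fun o : Option (Fin (finrank K V - 1)) => (o.casesOn' v0 fun i => (b i : V) : V)) :=
    linearIndependent_option'.2 ⟨hb, hsp d b v0 hv0⟩
  obtain ⟨g, l, hg0, hg⟩ := H105.exists_sl hu
    (linearIndependent_option'.2 ⟨hb', hsp c b' v1 hv1⟩) (some ⟨0, by omega⟩)
  refine ⟨g, ?_⟩
  have hspan : Submodule.span K (Set.range fun o : Option (Fin (finrank K V - 1)) => (o.casesOn' v0 fun i => (b i : V) : V)) = ⊤ := by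
    apply hu.span_eq_top_of_card_eq_finrank'
    rw [Fintype.card_option, Fintype.card_fin]
    omega
  refine LinearMap.ext_on_range hspan ?_
  intro o
  cases o with
  | none =>
    change c (g.1 v0) = d v0
    have := hg none (by simp)
    change g.1 v0 = v1 at this
    rw [this, hv1, hv0]
  | some i =>
    change c (g.1 (b i : V)) = d (b i)
    have hbi : d (b i) = 0 := (b i).2
    rw [hbi]
    by_cases hi : i = ⟨0, by omega⟩
    · subst hi
      change g.1 (b _ : V) = (l : K) • (b' _ : V) at hg0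
      rw [hg0, map_smul]
      have : c (b' ⟨0, by omega⟩) = 0 := (b' _).2
      rw [this, smul_zero]
    · have h1 := hg (some i) (by simpa using hi)
      change g.1 (b i : V) = (b' i : V) at h1
      rw [h1]
      exact (b' i).2

end Lin

section Main

variable (n : ℕ) (F : Type) [Field F] [Fintype F]

theorem exists_mat (g : SpecialLinearGroup F (Fin n → F)) :
    ∃ y : Matrix.SpecialLinearGroup (Fin n) F, ∀ v, slAct n F y v = g.1 v := by
  refine ⟨⟨LinearMap.toMatrix' (g.1 : (Fin n → F) →ₗ[F] (Fin n → F)), ?_⟩, fun v => ?_⟩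
  · rw [LinearMap.det_toMatrix']
    have h1 : LinearEquiv.det g.1 = 1 := g.2
    rw [← LinearEquiv.coe_det, h1, Units.val_one]
  · change Matrix.toLin' (LinearMap.toMatrix' (g.1 : (Fin n → F) →ₗ[F] (Fin n → F))) v = g.1 v
    rw [Matrix.toLin'_toMatrix']
    rfl

theorem slAct_apply (y : Matrix.SpecialLinearGroup (Fin n) F) (v : Fin n → F) :
    slAct n F y v = (y : Matrix (Fin n) (Fin n) F).mulVec v := rfl

/-- at least `|F| ^ (n - 1) / 2` -/
theorem sl_one (hn : 2 ≤ n) (v : Fin n → F) (hv : v ≠ 0) :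
    Nat.card F ^ (n - 1) ≤ 2 * Nat.card (Set.range fun y : Matrix.SpecialLinearGroup (Fin n) F => slAct n F y v) := by
  classical
  have h1 : (Set.univ \ {0} : Set (Fin n → F)) ⊆ Set.range fun y : Matrix.SpecialLinearGroup (Fin n) F => slAct n F y v := by
    intro u hu
    have hu0 : u ≠ 0 := fun h => hu.2 h
    obtain ⟨g, hg⟩ := exists_sl_small (K := F) (V := Fin n → F) (ι := Unit) (u := fun _ => v) (v := fun _ => u)
      (linearIndependent_unique_iff.2 hv) (linearIndependent_unique_iff.2 hu0) (by simp; omega)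
    obtain ⟨y, hy⟩ := exists_mat n F g
    exact ⟨y, (hy v).trans (hg ())⟩
  have h2 := Nat.card_mono (Set.toFinite _) h1
  have h3 : Nat.card (Set.univ \ {0} : Set (Fin n → F)) = Nat.card F ^ n - 1 := by
    rw [Nat.card_coe_set_eq, Set.ncard_sdiff_singleton_of_mem (Set.mem_univ _), Set.ncard_univ, Nat.card_fun]
    simp
  rw [h3] at h2
  have h4 : Nat.card F ^ n = Nat.card F * Nat.card F ^ (n - 1) := by
    rw [← pow_succ']
    congr 1
    omega
  have h5 : 2 ≤ Nat.card F := Finite.one_lt_card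
  have h6 : 1 ≤ Nat.card F ^ (n - 1) := Nat.one_le_pow _ _ (by omega)
  have h7 : 2 * Nat.card F ^ (n - 1) ≤ Nat.card F ^ n := by
    rw [h4]
    exact Nat.mul_le_mul_right _ h5
  omega

theorem sl_two (hn : 3 ≤ n) (v u : Fin n → F) (hv : v ≠ 0) (hu : ¬ ∃ l : F, u = l • v) :
    Nat.card F ^ (n - 2) ≤ 2 * Nat.card (sOrb (slAct n F) v u) := by
  classical
  have hli : ∀ w : Fin n → F, (¬ ∃ l : F, w = l • v) → LinearIndependent F ![v, w] := by
    intro w hw
    rw [LinearIndependent.pair_iff' hv]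
    intro a ha
    exact hw ⟨a, ha.symm⟩
  have h1 : (Set.univ \ (Submodule.span F {v} : Set (Fin n → F))) ⊆ sOrb (slAct n F) v u := by
    intro w hw
    have hw' : ¬ ∃ l : F, w = l • v := fun ⟨l, hl⟩ => hw.2 (by
      rw [SetLike.mem_coe, Submodule.mem_span_singleton]
      exact ⟨l, hl.symm⟩)
    obtain ⟨g, hg⟩ := exists_sl_small (K := F) (V := Fin n → F) (hli u hu) (hli w hw') (by simp; omega)
    obtain ⟨y, hy⟩ := exists_mat n F g
    exact ⟨y, (hy v).trans (hg 0), (hy u).trans (hg 1)⟩
  have h2 := Nat.card_mono (Set.toFinite _) h1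
  have h3 : Nat.card (Set.univ \ (Submodule.span F {v} : Set (Fin n → F)) : Set (Fin n → F)) = Nat.card F ^ n - Nat.card F := by
    rw [Nat.card_coe_set_eq, Set.ncard_sdiff (Set.subset_univ _), Set.ncard_univ, Nat.card_fun, ← Nat.card_coe_set_eq]
    have h4 : Nat.card (Submodule.span F {v}) = Nat.card F ^ finrank F (Submodule.span F {v}) :=
      Module.natCard_eq_pow_finrank
    rw [finrank_span_singleton hv, pow_one] at h4
    rw [show Nat.card ((Submodule.span F {v} : Submodule F (Fin n → F)) : Set (Fin n → F)) = Nat.card F from h4]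
    simp
  rw [h3] at h2
  have h5 : 2 ≤ Nat.card F := Finite.one_lt_card
  have h4 : Nat.card F ^ n = Nat.card F * (Nat.card F * Nat.card F ^ (n - 2)) := by
    rw [← pow_succ', ← pow_succ']
    congr 1
    omega
  have h7 : Nat.card F ≤ Nat.card F * Nat.card F ^ (n - 2) :=
    Nat.le_mul_of_pos_right _ (Nat.pow_pos (by omega))
  have h8 : 2 * (Nat.card F * Nat.card F ^ (n - 2)) ≤ Nat.card F ^ n := by
    rw [h4]
    exact Nat.mul_le_mul_right _ h5
  have h9 : Nat.card F ^ (n - 2) ≤ Nat.card F * Nat.card F ^ (n - 2) := Nat.le_mul_of_pos_left _ (by omega)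
  omega

/-- functionals vanishing on a subspace -/
theorem card_ann {V : Type*} [AddCommGroup V] [Module F V] [Finite V] (W : Submodule F V) :
    Nat.card {d : V →ₗ[F] F // W ≤ LinearMap.ker d} = Nat.card F ^ (finrank F V - finrank F W) := by
  have hfd : FiniteDimensional F V := Module.Finite.of_finite
  have h1 : finrank F W.dualAnnihilator = finrank F V - finrank F W := by
    have := Subspace.finrank_add_finrank_dualAnnihilator_eq W
    omega
  rw [← h1]
  have h2 : Nat.card W.dualAnnihilator = Nat.card F ^ finrank F W.dualAnnihilator :=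
    Module.natCard_eq_pow_finrank (K := F) (V := ↥W.dualAnnihilator)
  rw [← h2]
  refine Nat.card_congr (Equiv.subtypeEquivRight fun d => ?_)
  rw [Submodule.mem_dualAnnihilator]
  exact ⟨fun h v hv => h hv, fun h v hv => h v hv⟩

theorem sl_three (hn : 2 ≤ n) (W : Submodule F (Fin n → F)) {k : ℕ} (hW : finrank F W = k) (hk : k ≤ n)
    (c : (Fin n → F) →ₗ[F] F) (hc : c ≠ 0) :
    (Nat.card {y : Matrix.SpecialLinearGroup (Fin n) F // W.map (slAct n F y) ≤ LinearMap.ker c} : ℝ) ≤
      (2 / (Nat.card F : ℝ) ^ k) * Nat.card (Matrix.SpecialLinearGroup (Fin n) F) := by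
  classical
  have hF : 2 ≤ Nat.card F := Finite.one_lt_card
  have hF0 : (0 : ℝ) < Nat.card F := by exact_mod_cast (by omega : 0 < Nat.card F)
  have hfin : Finite ((Fin n → F) →ₗ[F] F) := DFunLike.finite _
  have h1 := card_ker_le (slAct n F) W c
  have h2 : Nat.card {d : (Fin n → F) →ₗ[F] F // (∃ y, d = c ∘ₗ slAct n F y) ∧ W ≤ LinearMap.ker d} ≤
      Nat.card F ^ (n - k) := by
    have h3 := card_ann F W
    rw [hW, finrank_fin_fun] at h3
    rw [← h3]
    exact Nat.card_le_card_of_injective (fun d => ⟨d.1, d.2.2⟩) fun a b hab =>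
      Subtype.ext (by have h := congrArg Subtype.val hab; exact h)
  have h3 : Nat.card F ^ n - 1 ≤ Nat.card (Set.range fun y : Matrix.SpecialLinearGroup (Fin n) F => c ∘ₗ slAct n F y) := by
    have h4 : (Set.univ \ {0} : Set ((Fin n → F) →ₗ[F] F)) ⊆
        Set.range fun y : Matrix.SpecialLinearGroup (Fin n) F => c ∘ₗ slAct n F y := by
      intro d hd
      have hd0 : d ≠ 0 := fun h => hd.2 h
      obtain ⟨g, hg⟩ := exists_sl_fun hc hd0 (by rw [finrank_fin_fun]; exact hn)
      obtain ⟨y, hy⟩ := exists_mat n F g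
      refine ⟨y, ?_⟩
      rw [← hg]
      ext v
      simp [hy]
    have h5 := Nat.card_mono (Set.toFinite _) h4
    have h6 : Nat.card (Set.univ \ {0} : Set ((Fin n → F) →ₗ[F] F)) = Nat.card F ^ n - 1 := by
      rw [Nat.card_coe_set_eq, Set.ncard_sdiff_singleton_of_mem (Set.mem_univ _), Set.ncard_univ]
      have h7 : Nat.card ((Fin n → F) →ₗ[F] F) = Nat.card F ^ finrank F ((Fin n → F) →ₗ[F] F) :=
        Module.natCard_eq_pow_finrank
      rw [h7, Module.finrank_linearMap, finrank_fin_fun, finrank_self, mul_one]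
    rwa [h6] at h5
  have h4 : Nat.card F ^ n ≤ 2 * Nat.card (Set.range fun y : Matrix.SpecialLinearGroup (Fin n) F => c ∘ₗ slAct n F y) := by
    have h5 : 2 ≤ Nat.card F ^ n := hF.trans (Nat.le_self_pow (by omega) _)
    omega
  have h5 : (Nat.card {y : Matrix.SpecialLinearGroup (Fin n) F // W.map (slAct n F y) ≤ LinearMap.ker c} : ℝ) *
      (Nat.card F : ℝ) ^ n ≤ 2 * ((Nat.card F : ℝ) ^ (n - k) * Nat.card (Matrix.SpecialLinearGroup (Fin n) F)) := by
    have h6 : Nat.card {y : Matrix.SpecialLinearGroup (Fin n) F // W.map (slAct n F y) ≤ LinearMap.ker c} * Nat.card F ^ n ≤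
        2 * (Nat.card F ^ (n - k) * Nat.card (Matrix.SpecialLinearGroup (Fin n) F)) := by
      calc _ ≤ Nat.card {y : Matrix.SpecialLinearGroup (Fin n) F // W.map (slAct n F y) ≤ LinearMap.ker c} *
            (2 * Nat.card (Set.range fun y : Matrix.SpecialLinearGroup (Fin n) F => c ∘ₗ slAct n F y)) :=
            Nat.mul_le_mul_left _ h4
        _ = 2 * (Nat.card {y : Matrix.SpecialLinearGroup (Fin n) F // W.map (slAct n F y) ≤ LinearMap.ker c} *
            Nat.card (Set.range fun y : Matrix.SpecialLinearGroup (Fin n) F => c ∘ₗ slAct n F y)) := by ring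
        _ ≤ 2 * _ := Nat.mul_le_mul_left _ (h1.trans (Nat.mul_le_mul_right _ h2))
    exact_mod_cast h6
  rw [div_mul_eq_mul_div, le_div_iff₀ (by positivity)]
  have h6 : (Nat.card F : ℝ) ^ n = (Nat.card F : ℝ) ^ (n - k) * (Nat.card F : ℝ) ^ k := by
    rw [← pow_add]
    congr 1
    omega
  rw [h6] at h5
  have h7 : (0 : ℝ) < (Nat.card F : ℝ) ^ (n - k) := by positivity
  nlinarith

/-- half of the dimensions -/
theorem sl_half (h8 : 8 ≤ n) (hF : 4 ≤ Nat.card F) (x : Matrix.SpecialLinearGroup (Fin n) F)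
    (hx : ¬ ∃ l : F, ∀ v, slAct n F x v = l • v) :
    (Nat.card {z : Matrix.SpecialLinearGroup (Fin n) F // ∃ W : Submodule F (Fin n → F), W ≠ ⊥ ∧ 2 * finrank F W ≤ n ∧
      W.map (slAct n F x) ≤ W ∧ W.map (slAct n F z) ≤ W} : ℝ) ≤
      (1224 / (Nat.card F : ℝ)) * Nat.card (Matrix.SpecialLinearGroup (Fin n) F) := by
  classical
  let T : ℕ → Finset (Submodule F (Fin n → F)) := fun k =>
    if h : ∃ W : Submodule F (Fin n → F), finrank F W = k then {Classical.choose h} else ∅
  have hT : ∀ k, ∀ W ∈ T k, finrank F W = k := by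
    intro k W hW
    simp only [T] at hW
    split_ifs at hW with h
    · rw [Finset.mem_singleton] at hW
      rw [hW]
      exact Classical.choose_spec h
    · simp at hW
  have hcard : ∀ k, (T k).card ≤ 1 := by
    intro k
    simp only [T]
    split_ifs with h
    · simp
    · simp
  have hq : (4 : ℝ) ≤ (Nat.card F : ℝ) := by exact_mod_cast hF
  have h := types_le (slAct n F) (MonoidHom.id _) Function.injective_id (m := 1) (by rw [one_mul])
    (by rw [finrank_fin_fun]; exact h8) (q := (Nat.card F : ℝ)) (C1 := 2) hq le_rfl (by norm_num) T hT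
    (fun k hk => by
      have h1 : ((T k).card : ℝ) ≤ 1 := by exact_mod_cast hcard k
      have h2 : (1 : ℝ) ≤ ((Nat.card F : ℝ) / 2) ^ (k - 1) := one_le_pow₀ (by linarith)
      linarith)
    (fun k hk => by
      have h1 : ((T k).card : ℝ) ≤ 1 := by exact_mod_cast hcard k
      have h2 : (1 : ℝ) ≤ 2 ^ k := one_le_pow₀ (by norm_num)
      nlinarith)
    (by rw [finrank_fin_fun]; exact sl_one n F (by omega))
    (by rw [finrank_fin_fun]; exact sl_two n F (by omega))
    (fun k hk1 hk2 W hW c hc => by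
      rw [finrank_fin_fun] at hk2
      refine (sl_three n F (by omega) W (hT k W hW) (by omega) c hc).trans
        (mul_le_mul_of_nonneg_right ?_ (Nat.cast_nonneg _))
      have : (0 : ℝ) ≤ 2 * (Nat.card F : ℝ) ^ (finrank F (Fin n → F) / 2 + 2) / (Nat.card F : ℝ) ^ finrank F (Fin n → F) := by
        positivity
      linarith)
    x hx
  refine le_trans ?_ (h.trans (le_of_eq (by ring)))
  have h2 : Nat.card {z : Matrix.SpecialLinearGroup (Fin n) F // ∃ W : Submodule F (Fin n → F), W ≠ ⊥ ∧ 2 * finrank F W ≤ n ∧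
      W.map (slAct n F x) ≤ W ∧ W.map (slAct n F z) ≤ W} ≤
      Nat.card {z : Matrix.SpecialLinearGroup (Fin n) F // ∃ k, 1 ≤ k ∧ 2 * k ≤ finrank F (Fin n → F) ∧ ∃ W ∈ T k, ∃ y,
      (W.map (slAct n F y)).map (slAct n F (MonoidHom.id _ x)) ≤ W.map (slAct n F y) ∧
        (W.map (slAct n F y)).map (slAct n F (MonoidHom.id _ z)) ≤ W.map (slAct n F y)} := by
    refine Nat.card_le_card_of_injective (fun z => ⟨z.1, ?_⟩) fun a b hab =>
      Subtype.ext (by have h := congrArg Subtype.val hab; exact h)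
    obtain ⟨W, hW0, hW2, hWx, hWz⟩ := z.2
    have hWpos : 0 < finrank F W := Submodule.one_le_finrank_iff.2 hW0
    have hex : ∃ W' : Submodule F (Fin n → F), finrank F W' = finrank F W := ⟨W, rfl⟩
    have hmem : Classical.choose hex ∈ T (finrank F W) := by
      simp only [T, dif_pos hex, Finset.mem_singleton]
    have hdim := Classical.choose_spec hex
    obtain ⟨g, hg⟩ := exists_sl_sub hdim (by omega)
    obtain ⟨y, hy⟩ := exists_mat n F g
    have hWy : (Classical.choose hex).map (slAct n F y) = W := by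
      have e1 : slAct n F y = (g.1 : (Fin n → F) →ₗ[F] (Fin n → F)) := LinearMap.ext hy
      calc (Classical.choose hex).map (slAct n F y) = (Classical.choose hex).map (g.1 : (Fin n → F) →ₗ[F] (Fin n → F)) := by
            rw [e1]
        _ = W := hg
    refine ⟨finrank F W, hWpos, by rw [finrank_fin_fun]; exact hW2, _, hmem, y, ?_⟩
    rw [hWy]
    exact ⟨hWx, hWz⟩
  exact_mod_cast h2

/-- the dot product -/
noncomputable def dotB : LinearMap.BilinForm F (Fin n → F) := Matrix.toBilin' (1 : Matrix (Fin n) (Fin n) F)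

theorem dotB_apply (u v : Fin n → F) : dotB n F u v = u ⬝ᵥ v := by
  rw [dotB, Matrix.toBilin'_apply', Matrix.one_mulVec]

theorem dotB_nondeg : (dotB n F).Nondegenerate := by
  apply LinearMap.BilinForm.nondegenerate_toBilin'_of_det_ne_zero'
  rw [Matrix.det_one]
  exact one_ne_zero

theorem dotB_refl : (dotB n F).IsRefl := by
  intro u v h
  rw [dotB_apply] at h ⊢
  rwa [dotProduct_comm]

/-- the inverse transpose -/
def invT (x : Matrix.SpecialLinearGroup (Fin n) F) : Matrix.SpecialLinearGroup (Fin n) F := x⁻¹.transpose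

theorem invT_invT (x : Matrix.SpecialLinearGroup (Fin n) F) : invT n F (invT n F x) = x := by
  apply Subtype.ext
  have h : ((invT n F (invT n F x) : Matrix.SpecialLinearGroup (Fin n) F) : Matrix (Fin n) (Fin n) F) =
      (((x⁻¹).transpose)⁻¹ : Matrix.SpecialLinearGroup (Fin n) F).1.transpose := rfl
  rw [h, Matrix.SpecialLinearGroup.coe_inv, Matrix.SpecialLinearGroup.coe_transpose, Matrix.adjugate_transpose,
    Matrix.transpose_transpose, ← Matrix.SpecialLinearGroup.coe_inv, inv_inv]

theorem perp_inv {W : Submodule F (Fin n → F)} {x : Matrix.SpecialLinearGroup (Fin n) F}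
    (h : W.map (slAct n F x) ≤ W) : ((dotB n F).orthogonal W).map (slAct n F (invT n F x)) ≤ (dotB n F).orthogonal W := by
  have h1 : W.map (slAct n F x) = W := map_eq_of_le (slAct n F) x h
  have h2 : ∀ w ∈ W, slAct n F x⁻¹ w ∈ W := by
    intro w hw
    rw [← h1] at hw
    obtain ⟨w', hw', rfl⟩ := hw
    rw [← rho_mul, inv_mul_cancel, map_one]
    exact hw'
  rintro _ ⟨u, hu, rfl⟩
  rw [LinearMap.BilinForm.mem_orthogonal_iff]
  intro w hw
  have h3 := (LinearMap.BilinForm.mem_orthogonal_iff.1 hu) _ (h2 w hw)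
  change dotB n F _ _ = 0 at h3
  change dotB n F _ _ = 0
  rw [dotB_apply, slAct_apply] at h3 ⊢
  have h4 : ((invT n F x : Matrix.SpecialLinearGroup (Fin n) F) : Matrix (Fin n) (Fin n) F) =
      ((x⁻¹ : Matrix.SpecialLinearGroup (Fin n) F) : Matrix (Fin n) (Fin n) F).transpose := rfl
  rw [h4, Matrix.mulVec_transpose, dotProduct_comm, ← Matrix.dotProduct_mulVec, dotProduct_comm]
  exact h3

/-- **`SL_n(F)` : pairs with a common invariant subspace** -/
theorem red_sl (h8 : 8 ≤ n) (hF : 4 ≤ Nat.card F) (x : Matrix.SpecialLinearGroup (Fin n) F)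
    (hx : ¬ ∃ l : F, ∀ v, slAct n F x v = l • v) :
    (Nat.card {z : Matrix.SpecialLinearGroup (Fin n) F // Red (slAct n F) x z} : ℝ) ≤
      (2448 / (Nat.card F : ℝ)) * Nat.card (Matrix.SpecialLinearGroup (Fin n) F) := by
  classical
  have hx' : ¬ ∃ l : F, ∀ v, slAct n F (invT n F x) v = l • v := by
    rintro ⟨l, hl⟩
    apply hx
    have h1 : ((x⁻¹ : Matrix.SpecialLinearGroup (Fin n) F) : Matrix (Fin n) (Fin n) F).transpose =
        l • (1 : Matrix (Fin n) (Fin n) F) := by
      apply Matrix.ext_of_mulVec_single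
      intro i
      have := hl (Pi.single i 1)
      rw [slAct_apply] at this
      rw [Matrix.smul_mulVec, Matrix.one_mulVec]
      exact this
    have h2 : ((x⁻¹ : Matrix.SpecialLinearGroup (Fin n) F) : Matrix (Fin n) (Fin n) F) = l • (1 : Matrix (Fin n) (Fin n) F) := by
      rw [← Matrix.transpose_transpose ((x⁻¹ : Matrix.SpecialLinearGroup (Fin n) F) : Matrix (Fin n) (Fin n) F), h1,
        Matrix.transpose_smul, Matrix.transpose_one]
    have h3 : l • (x : Matrix (Fin n) (Fin n) F) = 1 := by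
      have h4 : ((x⁻¹ * x : Matrix.SpecialLinearGroup (Fin n) F) : Matrix (Fin n) (Fin n) F) = 1 := by
        rw [inv_mul_cancel]
        rfl
      rw [Matrix.SpecialLinearGroup.coe_mul, h2, Matrix.smul_mul, Matrix.one_mul] at h4
      exact h4
    have hl0 : l ≠ 0 := by
      rintro rfl
      rw [zero_smul] at h3
      have : Nonempty (Fin n) := ⟨⟨0, by omega⟩⟩
      exact zero_ne_one h3
    refine ⟨l⁻¹, fun v => ?_⟩
    rw [slAct_apply]
    have h5 : (x : Matrix (Fin n) (Fin n) F) = l⁻¹ • (1 : Matrix (Fin n) (Fin n) F) := by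
      rw [← h3, smul_smul, inv_mul_cancel₀ hl0, one_smul]
    rw [h5, Matrix.smul_mulVec, Matrix.one_mulVec]
  have h1 := sl_half n F h8 hF x hx
  have h2 := sl_half n F h8 hF (invT n F x) hx'
  have h3 : Nat.card {z : Matrix.SpecialLinearGroup (Fin n) F // Red (slAct n F) x z} ≤
      Nat.card {z : Matrix.SpecialLinearGroup (Fin n) F // ∃ W : Submodule F (Fin n → F), W ≠ ⊥ ∧ 2 * finrank F W ≤ n ∧
        W.map (slAct n F x) ≤ W ∧ W.map (slAct n F z) ≤ W} +
      Nat.card {z : Matrix.SpecialLinearGroup (Fin n) F // ∃ W : Submodule F (Fin n → F), W ≠ ⊥ ∧ 2 * finrank F W ≤ n ∧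
        W.map (slAct n F (invT n F x)) ≤ W ∧ W.map (slAct n F z) ≤ W} := by
    rw [← Nat.card_sum]
    have key : ∀ z : {z : Matrix.SpecialLinearGroup (Fin n) F // Red (slAct n F) x z},
        (¬ ∃ W : Submodule F (Fin n → F), W ≠ ⊥ ∧ 2 * finrank F W ≤ n ∧
        W.map (slAct n F x) ≤ W ∧ W.map (slAct n F z.1) ≤ W) →
        ∃ W : Submodule F (Fin n → F), W ≠ ⊥ ∧ 2 * finrank F W ≤ n ∧
        W.map (slAct n F (invT n F x)) ≤ W ∧ W.map (slAct n F (invT n F z.1)) ≤ W := by
      rintro ⟨z, W, hW0, hW1, hWx, hWz⟩ hno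
      have h4 : ¬ 2 * finrank F W ≤ n := fun h => hno ⟨W, hW0, h, hWx, hWz⟩
      have h5 := LinearMap.BilinForm.finrank_orthogonal (dotB_nondeg n F) W
      rw [finrank_fin_fun] at h5
      refine ⟨(dotB n F).orthogonal W, ?_, by omega, perp_inv n F hWx, perp_inv n F hWz⟩
      intro h6
      rw [h6, finrank_bot] at h5
      apply hW1
      apply Submodule.eq_top_of_finrank_eq
      have h7 := Submodule.finrank_le W
      rw [finrank_fin_fun] at h7 ⊢
      omega
    refine Nat.card_le_card_of_injective (fun z => if h : ∃ W : Submodule F (Fin n → F), W ≠ ⊥ ∧ 2 * finrank F W ≤ n ∧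
        W.map (slAct n F x) ≤ W ∧ W.map (slAct n F z.1) ≤ W then Sum.inl ⟨z.1, h⟩ else
        Sum.inr ⟨invT n F z.1, key z h⟩) ?_
    intro a b hab
    by_cases ha : ∃ W : Submodule F (Fin n → F), W ≠ ⊥ ∧ 2 * finrank F W ≤ n ∧
        W.map (slAct n F x) ≤ W ∧ W.map (slAct n F a.1) ≤ W
    · by_cases hb : ∃ W : Submodule F (Fin n → F), W ≠ ⊥ ∧ 2 * finrank F W ≤ n ∧
        W.map (slAct n F x) ≤ W ∧ W.map (slAct n F b.1) ≤ W
      · simp only [dif_pos ha, dif_pos hb, Sum.inl.injEq, Subtype.mk.injEq] at hab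
        exact Subtype.ext hab
      · simp only [dif_pos ha, dif_neg hb] at hab
        cases hab
    · by_cases hb : ∃ W : Submodule F (Fin n → F), W ≠ ⊥ ∧ 2 * finrank F W ≤ n ∧
        W.map (slAct n F x) ≤ W ∧ W.map (slAct n F b.1) ≤ W
      · simp only [dif_neg ha, dif_pos hb] at hab
        cases hab
      · simp only [dif_neg ha, dif_neg hb, Sum.inr.injEq, Subtype.mk.injEq] at hab
        refine Subtype.ext ?_
        rw [← invT_invT n F a.1, ← invT_invT n F b.1, hab]
  have h4 : (Nat.card {z : Matrix.SpecialLinearGroup (Fin n) F // Red (slAct n F) x z} : ℝ) ≤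
      (Nat.card {z : Matrix.SpecialLinearGroup (Fin n) F // ∃ W : Submodule F (Fin n → F), W ≠ ⊥ ∧ 2 * finrank F W ≤ n ∧
        W.map (slAct n F x) ≤ W ∧ W.map (slAct n F z) ≤ W} : ℝ) +
      (Nat.card {z : Matrix.SpecialLinearGroup (Fin n) F // ∃ W : Submodule F (Fin n → F), W ≠ ⊥ ∧ 2 * finrank F W ≤ n ∧
        W.map (slAct n F (invT n F x)) ≤ W ∧ W.map (slAct n F z) ≤ W} : ℝ) := by exact_mod_cast h3
  calc _ ≤ _ := h4
    _ ≤ _ := add_le_add h1 h2
    _ = _ := by ring

end Main

end Cfsg.Agent.H262.Rx
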