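import Cfsg.Agent.H262.Rx.UR1
import Cfsg.Agent.H262.Rx.UROm
import Cfsg.Agent.H105.Ux.UA
import Cfsg.Agent.H141.Ux.Asm
import Cfsg.Agent.H141.Ux.Det
import Cfsg.Agent.H847.Ux.Gp
import Cfsg.Agent.H627.Ux.UG2
import Cfsg.Agent.H541.Ux.Final
import Cfsg.Agent.H994.Ux.Moment
import Cfsg.Agent.H637.Ux.UK1
import Cfsg.Agent.H447.Ux.UKTwo
import Cfsg.Agent.H497.Ux.UB1
import Cfsg.Agent.H112.Ux.UB2
import Cfsg.Agent.H887.Ux.UN2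
import Cfsg.Agent.H289.Ux.UK4
import Cfsg.Agent.H124.UX.UF1Fin
import Cfsg.Agent.H767.Ux.Dye
import Cfsg.Agent.H442.Ux.ComQ
import Cfsg.Agent.H183.UI.Index
import Cfsg.Agent.H545.Ux.UT1
import Cfsg.Agent.H261.Ux.TypL

/-!
# `UX IsCl` (helper262) from the last two pieces
-/

set_option autoImplicit false

namespace Cfsg.Agent.H262.Rx

open Cfsg.Agent.H141.Ux

/-- **unbounded rank, all non-trivial first elements** -/
theorem ux_all (hT2 : UT2) (hK3 : UN → UK1 → UK3) : UX IsCl :=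
  Cfsg.Agent.H105.Ux.ua
    (xsl ur1 H183.UI.ui H261.Ux.ut3 H994.Ux.um2 H627.Ux.ug2 H447.Ux.uk2
      (ud1 H447.Ux.uk2 (H289.Ux.uk4 H887.Ux.un H447.Ux.uk2) H112.Ux.ub2))
    (xf ur2' H183.UI.ui H545.Ux.ut1 hT2 H541.Ux.um1 H847.Ux.ug1 H442.Ux.uf3
      (ud2 (hK3 H887.Ux.un H637.Ux.uk1) H497.Ux.ub1 H124.UX.uf1 H767.Ux.uf2))

end Cfsg.Agent.H262.Rx
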