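import Cfsg.Agent.H262.Rx.UXAll
import Cfsg.Agent.H50.Ux.UT2
import Cfsg.Agent.H791.UK.Main

/-!
# `UX IsCl` (helper262)

All pieces of the unbounded rank part of the fixed element statement are in place.
-/

set_option autoImplicit false

namespace Cfsg.Agent.H262.Rx

theorem ux_fin : UX IsCl := ux_all Cfsg.Agent.H50.Ux.ut2 Cfsg.Agent.H791.UK.uk3

end Cfsg.Agent.H262.Rx
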